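import Cfsg.Agent.Spor.C3EM.D0

set_option autoImplicit false
set_option maxRecDepth 100000000
set_option Elab.async false

namespace Cfsg.Agent.Spor.C3EM

theorem ok0 : Net.okb 7 n0 = true := by decide +kernel

theorem ok1 : Net.okb 7 n1 = true := by decide +kernel

theorem ok2 : Net.okb 7 n2 = true := by decide +kernel

theorem ok3 : Net.okb 7 n3 = true := by decide +kernel

theorem ok4 : Net.okb 7 n4 = true := by decide +kernel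

theorem ok5 : Net.okb 7 n5 = true := by decide +kernel

theorem ok6 : Net.okb 7 n6 = true := by decide +kernel

theorem rel0 : T.rel 7 [1, 1] 0 7 = true := by decide +kernel

theorem rel1 : T.rel 7 [2, 2] 0 7 = true := by decide +kernel

theorem rel2 : T.rel 7 [3, 3] 0 7 = true := by decide +kernel

theorem rel3 : T.rel 7 [4, 4] 0 7 = true := by decide +kernel

theorem rel4 : T.rel 7 [5, 5] 0 7 = true := by decide +kernel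

theorem rel5 : T.rel 7 [6, 1, 4, 1] 0 7 = true := by decide +kernel

theorem rel6 : T.rel 7 [8, 5, 4, 1, 4, 2] 0 7 = true := by decide +kernel

theorem rel7 : T.rel 7 [3, 2, 3, 2, 3, 2, 3, 2] 0 7 = true := by decide +kernel

theorem rel8 : T.rel 7 [4, 2, 4, 2, 4, 2, 4, 2, 4, 2, 4, 2] 0 7 = true := by decide +kernel

theorem rel9 : T.rel 7 [4, 3, 4, 3, 4, 3, 4, 3] 0 7 = true := by decide +kernel

theorem rel10 : T.rel 7 [2, 3, 2, 3, 4, 2, 3, 2, 3, 4, 3, 2, 3, 2, 4] 0 7 = true := by decide +kernel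

theorem rel11 : T.rel 7 [2, 3, 4, 2, 3, 4, 3, 4, 2, 4, 2, 3, 4, 3, 4, 2, 4, 3, 2, 4, 3, 4] 0 7 = true := by decide +kernel

theorem rel12 : T.rel 7 [2, 3, 2, 4, 2, 4, 2, 3, 4, 2, 3, 4, 2, 3, 4, 2, 3, 4, 2, 3, 4, 3, 2, 3, 4] 0 7 = true := by decide +kernel

theorem rel13 : T.rel 7 [2, 1, 2, 1, 2, 1, 2, 1] 0 7 = true := by decide +kernel

theorem rel14 : T.rel 7 [4, 1, 4, 1, 4, 1, 4, 1, 4, 1, 4, 1] 0 7 = true := by decide +kernel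

theorem rel15 : T.rel 7 [1, 2, 1, 2, 4, 1, 4, 2, 1, 2, 1, 4, 1, 4] 0 7 = true := by decide +kernel

theorem rel16 : T.rel 7 [1, 2, 1, 4, 1, 2, 4, 2, 1, 4, 2, 4, 1, 4, 2, 4, 1, 2, 4, 1, 4, 2, 4] 0 7 = true := by decide +kernel

theorem rel17 : T.rel 7 [1, 2, 4, 1, 2, 4, 1, 2, 4, 1, 2, 4, 1, 2, 4, 1, 2, 4] 0 7 = true := by decide +kernel

theorem rel18 : T.rel 7 [3, 2, 4, 2, 4, 2, 3, 5] 0 7 = true := by decide +kernel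

theorem rel19 : T.rel 7 [1, 2, 4, 2, 4, 1, 4, 2, 4, 2, 5] 0 7 = true := by decide +kernel

theorem rel20 : T.rel 7 [2, 4, 3, 4, 3, 2, 4, 3, 4, 3, 2, 3, 1, 3, 1, 3, 1] 0 7 = true := by decide +kernel

theorem rel21 : T.rel 7 [3, 1, 3, 1, 3, 1, 3, 1, 3, 1, 3, 1] 0 7 = true := by decide +kernel

theorem rel22 : T.rel 7 [1, 3, 4, 3, 1, 3, 4, 2, 3, 4, 2, 3, 2, 4, 3, 2, 4, 3] 0 7 = true := by decide +kernel

theorem rel23 : T.rel 7 [1, 3, 2, 3, 4, 2, 4, 1, 3, 4, 1, 4, 2, 4, 3, 2, 3, 4, 3, 2, 4, 3, 4, 3, 2, 3, 4] 0 7 = true := by decide +kernel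

theorem rel24 : T.rel 7 [1, 3, 2, 3, 4, 3, 2, 1, 3, 4, 1, 2, 4, 2, 3, 4, 3, 2, 3, 4, 3, 2, 4, 2, 3] 0 7 = true := by decide +kernel

theorem rel25 : T.rel 7 [1, 3, 2, 4, 2, 4, 2, 3, 1, 3, 2, 4, 2, 4, 2, 3] 0 7 = true := by decide +kernel

theorem rel26 : T.rel 7 [1, 4, 2, 4, 1, 4, 2, 4, 3, 4, 2, 4, 2, 3, 4, 2, 3, 2, 4, 2] 0 7 = true := by decide +kernel

theorem rel27 : T.rel 7 [1, 5, 1, 5] 0 7 = true := by decide +kernel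

theorem rel28 : T.rel 7 [1, 2, 5, 1, 4, 5, 1, 4, 9] 0 7 = true := by decide +kernel

theorem rel29 : T.rel 7 [2, 3, 2, 4, 3, 5, 2, 3, 8, 7, 4, 3] 0 7 = true := by decide +kernel

theorem hcov : T.treeCov (ones 128) L 1 = true := by decide +kernel

theorem hg : lall (fun z => band (memL L z) (band (sub (ones 128) (T.let z).cl) (T.closed (ones 128) z))) gs = true := by decide +kernel

theorem rot1_1 : T.rot 1 [1] (sel (ones 128) ip1 1) = true := by decide +kernel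

theorem rot1_1r : band (Rule.ok (2 * 5) EX RL ⟨1 :: [1], [], 23, false⟩) (lall (memL L) [1]) = true := by decide +kernel

theorem rot1_2 : T.rot 1 [5, 1, 5] (sel (ones 128) ip1 2) = true := by decide +kernel

theorem rot1_2r : band (Rule.ok (2 * 5) EX RL ⟨1 :: [5, 1, 5], [], 20, true⟩) (lall (memL L) [5, 1, 5]) = true := by decide +kernel

theorem rot1_3 : T.rot 1 [7, 1, 4] (sel (ones 128) ip1 3) = true := by decide +kernel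

theorem rot1_3r : band (Rule.ok (2 * 5) EX RL ⟨1 :: [7, 1, 4], [], 23, false⟩) (lall (memL L) [7, 1, 4]) = true := by decide +kernel

theorem rot1_4 : T.rot 1 [4, 1, 6] (sel (ones 128) ip1 4) = true := by decide +kernel

theorem rot1_4r : band (Rule.ok (2 * 5) EX RL ⟨1 :: [4, 1, 6], [], 23, false⟩) (lall (memL L) [4, 1, 6]) = true := by decide +kernel

theorem rot1_5 : T.rot 1 [6, 1, 4] (sel (ones 128) ip1 5) = true := by decide +kernel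

theorem rot1_5r : band (Rule.ok (2 * 5) EX RL ⟨1 :: [6, 1, 4], [], 23, false⟩) (lall (memL L) [6, 1, 4]) = true := by decide +kernel

theorem rot1_6 : T.rot 1 [4, 5, 9, 2, 4] (sel (ones 128) ip1 6) = true := by decide +kernel

theorem rot1_6r : band (Rule.ok (2 * 5) EX RL ⟨1 :: [4, 5, 9, 2, 4], [], 23, false⟩) (lall (memL L) [4, 5, 9, 2, 4]) = true := by decide +kernel

theorem rot1_7 : T.rot 1 [4, 2, 8, 5, 4] (sel (ones 128) ip1 7) = true := by decide +kernel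

theorem rot1_7r : band (Rule.ok (2 * 5) EX RL ⟨1 :: [4, 2, 8, 5, 4], [], 23, false⟩) (lall (memL L) [4, 2, 8, 5, 4]) = true := by decide +kernel

theorem rot1_8 : T.rot 1 [2, 1, 2, 1, 2, 1, 2] (sel (ones 128) ip1 8) = true := by decide +kernel

theorem rot1_8r : band (Rule.ok (2 * 5) EX RL ⟨1 :: [2, 1, 2, 1, 2, 1, 2], [], 6, false⟩) (lall (memL L) [2, 1, 2, 1, 2, 1, 2]) = true := by decide +kernel

theorem rot1_9 : T.rot 1 [2, 5, 1, 4, 5, 1, 4, 9] (sel (ones 128) ip1 9) = true := by decide +kernel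

theorem rot1_9r : band (Rule.ok (2 * 5) EX RL ⟨1 :: [2, 5, 1, 4, 5, 1, 4, 9], [], 21, true⟩) (lall (memL L) [2, 5, 1, 4, 5, 1, 4, 9]) = true := by decide +kernel

theorem rot1_10 : T.rot 1 [4, 5, 1, 4, 9, 1, 2, 5] (sel (ones 128) ip1 10) = true := by decide +kernel

theorem rot1_10r : band (Rule.ok (2 * 5) EX RL ⟨1 :: [4, 5, 1, 4, 9, 1, 2, 5], [0, 2, 8], 21, true⟩) (lall (memL L) [4, 5, 1, 4, 9, 1, 2, 5]) = true := by decide +kernel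

theorem rot1_11 : T.rot 1 [4, 9, 1, 2, 5, 1, 4, 5] (sel (ones 128) ip1 11) = true := by decide +kernel

theorem rot1_11r : band (Rule.ok (2 * 5) EX RL ⟨1 :: [4, 9, 1, 2, 5, 1, 4, 5], [0, 2, 8, 0, 6, 8], 21, true⟩) (lall (memL L) [4, 9, 1, 2, 5, 1, 4, 5]) = true := by decide +kernel

theorem rot1_12 : T.rot 1 [5, 2, 1, 8, 4, 1, 5, 4] (sel (ones 128) ip1 12) = true := by decide +kernel

theorem rot1_12r : band (Rule.ok (2 * 5) EX RL ⟨1 :: [5, 2, 1, 8, 4, 1, 5, 4], [0, 2, 8, 0], 21, false⟩) (lall (memL L) [5, 2, 1, 8, 4, 1, 5, 4]) = true := by decide +kernel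

theorem rot1_13 : T.rot 1 [8, 4, 1, 5, 4, 1, 5, 2] (sel (ones 128) ip1 13) = true := by decide +kernel

theorem rot1_13r : band (Rule.ok (2 * 5) EX RL ⟨1 :: [8, 4, 1, 5, 4, 1, 5, 2], [0], 21, false⟩) (lall (memL L) [8, 4, 1, 5, 4, 1, 5, 2]) = true := by decide +kernel

theorem rot1_14 : T.rot 1 [2, 4, 2, 4, 1, 4, 2, 4, 2, 5] (sel (ones 128) ip1 14) = true := by decide +kernel

theorem rot1_14r : band (Rule.ok (2 * 5) EX RL ⟨1 :: [2, 4, 2, 4, 1, 4, 2, 4, 2, 5], [], 12, true⟩) (lall (memL L) [2, 4, 2, 4, 1, 4, 2, 4, 2, 5]) = true := by decide +kernel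

theorem rot1_15 : T.rot 1 [4, 2, 4, 2, 5, 1, 2, 4, 2, 4] (sel (ones 128) ip1 15) = true := by decide +kernel

theorem rot1_15r : band (Rule.ok (2 * 5) EX RL ⟨1 :: [4, 2, 4, 2, 5, 1, 2, 4, 2, 4], [0, 2, 6, 2, 6], 12, true⟩) (lall (memL L) [4, 2, 4, 2, 5, 1, 2, 4, 2, 4]) = true := by decide +kernel

theorem rot1_16 : T.rot 1 [5, 2, 4, 2, 4, 1, 4, 2, 4, 2] (sel (ones 128) ip1 16) = true := by decide +kernel

theorem rot1_16r : band (Rule.ok (2 * 5) EX RL ⟨1 :: [5, 2, 4, 2, 4, 1, 4, 2, 4, 2], [0], 12, false⟩) (lall (memL L) [5, 2, 4, 2, 4, 1, 4, 2, 4, 2]) = true := by decide +kernel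

theorem rot1_17 : T.rot 1 [4, 1, 4, 1, 4, 1, 4, 1, 4, 1, 4] (sel (ones 128) ip1 17) = true := by decide +kernel

theorem rot1_17r : band (Rule.ok (2 * 5) EX RL ⟨1 :: [4, 1, 4, 1, 4, 1, 4, 1, 4, 1, 4], [], 7, false⟩) (lall (memL L) [4, 1, 4, 1, 4, 1, 4, 1, 4, 1, 4]) = true := by decide +kernel

theorem rot1_18 : T.rot 1 [2, 1, 2, 4, 1, 4, 2, 1, 2, 1, 4, 1, 4] (sel (ones 128) ip1 18) = true := by decide +kernel

theorem rot1_18r : band (Rule.ok (2 * 5) EX RL ⟨1 :: [2, 1, 2, 4, 1, 4, 2, 1, 2, 1, 4, 1, 4], [], 8, true⟩) (lall (memL L) [2, 1, 2, 4, 1, 4, 2, 1, 2, 1, 4, 1, 4]) = true := by decide +kernel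

theorem rot1_19 : T.rot 1 [4, 1, 4, 1, 2, 1, 2, 4, 1, 4, 2, 1, 2] (sel (ones 128) ip1 19) = true := by decide +kernel

theorem rot1_19r : band (Rule.ok (2 * 5) EX RL ⟨1 :: [4, 1, 4, 1, 2, 1, 2, 4, 1, 4, 2, 1, 2], [0], 8, false⟩) (lall (memL L) [4, 1, 4, 1, 2, 1, 2, 4, 1, 4, 2, 1, 2]) = true := by decide +kernel

theorem rot1_20 : T.rot 1 [4, 1, 2, 1, 2, 4, 1, 4, 2, 1, 2, 1, 4] (sel (ones 128) ip1 20) = true := by decide +kernel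

theorem rot1_20r : band (Rule.ok (2 * 5) EX RL ⟨1 :: [4, 1, 2, 1, 2, 4, 1, 4, 2, 1, 2, 1, 4], [6], 8, false⟩) (lall (memL L) [4, 1, 2, 1, 2, 4, 1, 4, 2, 1, 2, 1, 4]) = true := by decide +kernel

theorem rot1_21 : T.rot 1 [3, 1, 3, 1, 2, 4, 3, 4, 3, 2, 4, 3, 4, 3, 2, 3] (sel (ones 128) ip1 21) = true := by decide +kernel

theorem rot1_21r : band (Rule.ok (2 * 5) EX RL ⟨1 :: [3, 1, 3, 1, 2, 4, 3, 4, 3, 2, 4, 3, 4, 3, 2, 3], [0, 4, 0, 4, 0], 13, true⟩) (lall (memL L) [3, 1, 3, 1, 2, 4, 3, 4, 3, 2, 4, 3, 4, 3, 2, 3]) = true := by decide +kernel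

theorem rot1_22 : T.rot 1 [2, 4, 3, 4, 3, 2, 4, 3, 4, 3, 2, 3, 1, 3, 1, 3] (sel (ones 128) ip1 22) = true := by decide +kernel

theorem rot1_22r : band (Rule.ok (2 * 5) EX RL ⟨1 :: [2, 4, 3, 4, 3, 2, 4, 3, 4, 3, 2, 3, 1, 3, 1, 3], [0], 13, true⟩) (lall (memL L) [2, 4, 3, 4, 3, 2, 4, 3, 4, 3, 2, 3, 1, 3, 1, 3]) = true := by decide +kernel

theorem rot1_23 : T.rot 1 [3, 1, 3, 1, 3, 2, 3, 4, 3, 4, 2, 3, 4, 3, 4, 2] (sel (ones 128) ip1 23) = true := by decide +kernel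

theorem rot1_23r : band (Rule.ok (2 * 5) EX RL ⟨1 :: [3, 1, 3, 1, 3, 2, 3, 4, 3, 4, 2, 3, 4, 3, 4, 2], [], 13, false⟩) (lall (memL L) [3, 1, 3, 1, 3, 2, 3, 4, 3, 4, 2, 3, 4, 3, 4, 2]) = true := by decide +kernel

theorem rot1_24 : T.rot 1 [3, 2, 3, 4, 3, 4, 2, 3, 4, 3, 4, 2, 1, 3, 1, 3] (sel (ones 128) ip1 24) = true := by decide +kernel

theorem rot1_24r : band (Rule.ok (2 * 5) EX RL ⟨1 :: [3, 2, 3, 4, 3, 4, 2, 3, 4, 3, 4, 2, 1, 3, 1, 3], [0, 4, 0, 4], 13, false⟩) (lall (memL L) [3, 2, 3, 4, 3, 4, 2, 3, 4, 3, 4, 2, 1, 3, 1, 3]) = true := by decide +kernel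

theorem rot1_25 : T.rot 1 [2, 4, 1, 2, 4, 1, 2, 4, 1, 2, 4, 1, 2, 4, 1, 2, 4] (sel (ones 128) ip1 25) = true := by decide +kernel

theorem rot1_25r : band (Rule.ok (2 * 5) EX RL ⟨1 :: [2, 4, 1, 2, 4, 1, 2, 4, 1, 2, 4, 1, 2, 4, 1, 2, 4], [], 10, true⟩) (lall (memL L) [2, 4, 1, 2, 4, 1, 2, 4, 1, 2, 4, 1, 2, 4, 1, 2, 4]) = true := by decide +kernel

theorem rot1_26 : T.rot 1 [3, 4, 3, 1, 3, 4, 2, 3, 4, 2, 3, 2, 4, 3, 2, 4, 3] (sel (ones 128) ip1 26) = true := by decide +kernel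

theorem rot1_26r : band (Rule.ok (2 * 5) EX RL ⟨1 :: [3, 4, 3, 1, 3, 4, 2, 3, 4, 2, 3, 2, 4, 3, 2, 4, 3], [], 15, true⟩) (lall (memL L) [3, 4, 3, 1, 3, 4, 2, 3, 4, 2, 3, 2, 4, 3, 2, 4, 3]) = true := by decide +kernel

theorem rot1_27 : T.rot 1 [3, 4, 2, 3, 4, 2, 3, 2, 4, 3, 2, 4, 3, 1, 3, 4, 3] (sel (ones 128) ip1 27) = true := by decide +kernel

theorem rot1_27r : band (Rule.ok (2 * 5) EX RL ⟨1 :: [3, 4, 2, 3, 4, 2, 3, 2, 4, 3, 2, 4, 3, 1, 3, 4, 3], [0], 15, false⟩) (lall (memL L) [3, 4, 2, 3, 4, 2, 3, 2, 4, 3, 2, 4, 3, 1, 3, 4, 3]) = true := by decide +kernel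

theorem rot1_28 : T.rot 1 [4, 2, 4, 3, 4, 2, 4, 2, 3, 4, 2, 3, 2, 4, 2, 1, 4, 2, 4] (sel (ones 128) ip1 28) = true := by decide +kernel

theorem rot1_28r : band (Rule.ok (2 * 5) EX RL ⟨1 :: [4, 2, 4, 3, 4, 2, 4, 2, 3, 4, 2, 3, 2, 4, 2, 1, 4, 2, 4], [0, 6, 2, 6], 19, true⟩) (lall (memL L) [4, 2, 4, 3, 4, 2, 4, 2, 3, 4, 2, 3, 2, 4, 2, 1, 4, 2, 4]) = true := by decide +kernel

theorem rot1_29 : T.rot 1 [4, 2, 4, 1, 2, 1, 4, 1, 2, 4, 2, 1, 4, 2, 4, 1, 4, 2, 4, 1, 2, 4] (sel (ones 128) ip1 29) = true := by decide +kernel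

theorem rot1_29r : band (Rule.ok (2 * 5) EX RL ⟨1 :: [4, 2, 4, 1, 2, 1, 4, 1, 2, 4, 2, 1, 4, 2, 4, 1, 4, 2, 4, 1, 2, 4], [6, 2, 6, 0], 9, true⟩) (lall (memL L) [4, 2, 4, 1, 2, 1, 4, 1, 2, 4, 2, 1, 4, 2, 4, 1, 4, 2, 4, 1, 2, 4]) = true := by decide +kernel

theorem rot1_30 : T.rot 1 [3, 2, 3, 4, 3, 2, 1, 3, 4, 1, 2, 4, 2, 3, 4, 3, 2, 3, 4, 3, 2, 4, 2, 3] (sel (ones 128) ip1 30) = true := by decide +kernel

theorem rot1_30r : band (Rule.ok (2 * 5) EX RL ⟨1 :: [3, 2, 3, 4, 3, 2, 1, 3, 4, 1, 2, 4, 2, 3, 4, 3, 2, 3, 4, 3, 2, 4, 2, 3], [], 17, true⟩) (lall (memL L) [3, 2, 3, 4, 3, 2, 1, 3, 4, 1, 2, 4, 2, 3, 4, 3, 2, 3, 4, 3, 2, 4, 2, 3]) = true := by decide +kernel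

theorem rot1_31 : T.rot 1 [2, 4, 2, 3, 4, 3, 2, 3, 4, 3, 2, 4, 2, 3, 1, 3, 2, 3, 4, 3, 2, 1, 3, 4] (sel (ones 128) ip1 31) = true := by decide +kernel

theorem rot1_31r : band (Rule.ok (2 * 5) EX RL ⟨1 :: [2, 4, 2, 3, 4, 3, 2, 3, 4, 3, 2, 4, 2, 3, 1, 3, 2, 3, 4, 3, 2, 1, 3, 4], [0, 4, 2, 4, 6, 4, 2, 0, 4, 6], 17, true⟩) (lall (memL L) [2, 4, 2, 3, 4, 3, 2, 3, 4, 3, 2, 4, 2, 3, 1, 3, 2, 3, 4, 3, 2, 1, 3, 4]) = true := by decide +kernel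

theorem rot1_32 : T.rot 1 [4, 3, 1, 2, 3, 4, 3, 2, 3, 1, 3, 2, 4, 2, 3, 4, 3, 2, 3, 4, 3, 2, 4, 2] (sel (ones 128) ip1 32) = true := by decide +kernel

theorem rot1_32r : band (Rule.ok (2 * 5) EX RL ⟨1 :: [4, 3, 1, 2, 3, 4, 3, 2, 3, 1, 3, 2, 4, 2, 3, 4, 3, 2, 3, 4, 3, 2, 4, 2], [0, 4, 2, 4, 6, 4, 2, 0, 4, 6, 0], 17, false⟩) (lall (memL L) [4, 3, 1, 2, 3, 4, 3, 2, 3, 1, 3, 2, 4, 2, 3, 4, 3, 2, 3, 4, 3, 2, 4, 2]) = true := by decide +kernel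

theorem rot1_33 : T.rot 1 [2, 3, 4, 3, 2, 3, 1, 3, 2, 4, 2, 3, 4, 3, 2, 3, 4, 3, 2, 4, 2, 1, 4, 3] (sel (ones 128) ip1 33) = true := by decide +kernel

theorem rot1_33r : band (Rule.ok (2 * 5) EX RL ⟨1 :: [2, 3, 4, 3, 2, 3, 1, 3, 2, 4, 2, 3, 4, 3, 2, 3, 4, 3, 2, 4, 2, 1, 4, 3], [0, 4, 2, 4, 6, 4, 2, 0], 17, false⟩) (lall (memL L) [2, 3, 4, 3, 2, 3, 1, 3, 2, 4, 2, 3, 4, 3, 2, 3, 4, 3, 2, 4, 2, 1, 4, 3]) = true := by decide +kernel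

theorem rot1_34 : T.rot 1 [3, 2, 4, 2, 3, 4, 3, 2, 3, 4, 3, 2, 4, 2, 1, 4, 3, 1, 2, 3, 4, 3, 2, 3] (sel (ones 128) ip1 34) = true := by decide +kernel

theorem rot1_34r : band (Rule.ok (2 * 5) EX RL ⟨1 :: [3, 2, 4, 2, 3, 4, 3, 2, 3, 4, 3, 2, 4, 2, 1, 4, 3, 1, 2, 3, 4, 3, 2, 3], [0], 17, false⟩) (lall (memL L) [3, 2, 4, 2, 3, 4, 3, 2, 3, 4, 3, 2, 4, 2, 1, 4, 3, 1, 2, 3, 4, 3, 2, 3]) = true := by decide +kernel

theorem rot1_35 : T.rot 1 [3, 4, 1, 4, 2, 4, 3, 2, 3, 4, 3, 2, 4, 3, 4, 3, 2, 3, 4, 1, 3, 2, 3, 4, 2, 4] (sel (ones 128) ip1 35) = true := by decide +kernel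

theorem rot1_35r : band (Rule.ok (2 * 5) EX RL ⟨1 :: [3, 4, 1, 4, 2, 4, 3, 2, 3, 4, 3, 2, 4, 3, 4, 3, 2, 3, 4, 1, 3, 2, 3, 4, 2, 4], [0, 4, 2, 4, 6, 2, 6], 16, true⟩) (lall (memL L) [3, 4, 1, 4, 2, 4, 3, 2, 3, 4, 3, 2, 4, 3, 4, 3, 2, 3, 4, 1, 3, 2, 3, 4, 2, 4]) = true := by decide +kernel

theorem rot1_36 : T.rot 1 [4, 2, 4, 3, 2, 3, 4, 3, 2, 4, 3, 4, 3, 2, 3, 4, 1, 3, 2, 3, 4, 2, 4, 1, 3, 4] (sel (ones 128) ip1 36) = true := by decide +kernel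

theorem rot1_36r : band (Rule.ok (2 * 5) EX RL ⟨1 :: [4, 2, 4, 3, 2, 3, 4, 3, 2, 4, 3, 4, 3, 2, 3, 4, 1, 3, 2, 3, 4, 2, 4, 1, 3, 4], [0, 4, 2, 4, 6, 2, 6, 0, 4, 6], 16, true⟩) (lall (memL L) [4, 2, 4, 3, 2, 3, 4, 3, 2, 4, 3, 4, 3, 2, 3, 4, 1, 3, 2, 3, 4, 2, 4, 1, 3, 4]) = true := by decide +kernel

theorem rot1_37 : T.rot 1 [4, 2, 4, 3, 2, 3, 1, 4, 3, 2, 3, 4, 3, 4, 2, 3, 4, 3, 2, 3, 4, 2, 4, 1, 4, 3] (sel (ones 128) ip1 37) = true := by decide +kernel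

theorem rot1_37r : band (Rule.ok (2 * 5) EX RL ⟨1 :: [4, 2, 4, 3, 2, 3, 1, 4, 3, 2, 3, 4, 3, 4, 2, 3, 4, 3, 2, 3, 4, 2, 4, 1, 4, 3], [0, 4, 2, 4, 6, 2, 6, 0], 16, false⟩) (lall (memL L) [4, 2, 4, 3, 2, 3, 1, 4, 3, 2, 3, 4, 3, 4, 2, 3, 4, 3, 2, 3, 4, 2, 4, 1, 4, 3]) = true := by decide +kernel

theorem cov1 : T.cover 1 [(sel (ones 128) ip1 1), (sel (ones 128) ip1 2), (sel (ones 128) ip1 3), (sel (ones 128) ip1 4), (sel (ones 128) ip1 5), (sel (ones 128) ip1 6), (sel (ones 128) ip1 7), (sel (ones 128) ip1 8), (sel (ones 128) ip1 9), (sel (ones 128) ip1 10), (sel (ones 128) ip1 11), (sel (ones 128) ip1 12), (sel (ones 128) ip1 13), (sel (ones 128) ip1 14), (sel (ones 128) ip1 15), (sel (ones 128) ip1 16), (sel (ones 128) ip1 17), (sel (ones 128) ip1 18), (sel (ones 128) ip1 19), (sel (ones 128) ip1 20), (sel (ones 128) ip1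 21), (sel (ones 128) ip1 22), (sel (ones 128) ip1 23), (sel (ones 128) ip1 24), (sel (ones 128) ip1 25), (sel (ones 128) ip1 26), (sel (ones 128) ip1 27), (sel (ones 128) ip1 28), (sel (ones 128) ip1 29), (sel (ones 128) ip1 30), (sel (ones 128) ip1 31), (sel (ones 128) ip1 32), (sel (ones 128) ip1 33), (sel (ones 128) ip1 34), (sel (ones 128) ip1 35), (sel (ones 128) ip1 36), (sel (ones 128) ip1 37)] = true := by decide +kernel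

theorem tl1 : T.treeLt 7 1 = true := by decide +kernel

theorem rot2_1 : T.rot 2 [2] (sel (ones 128) ip2 1) = true := by decide +kernel

theorem rot2_1r : band (Rule.ok (2 * 5) EX RL ⟨2 :: [2], [], 23, false⟩) (lall (memL L) [2]) = true := by decide +kernel

theorem rot2_2 : T.rot 2 [3, 2, 3, 2, 3, 2, 3] (sel (ones 128) ip2 2) = true := by decide +kernel

theorem rot2_2r : band (Rule.ok (2 * 5) EX RL ⟨2 :: [3, 2, 3, 2, 3, 2, 3], [], 0, false⟩) (lall (memL L) [3, 2, 3, 2, 3, 2, 3]) = true := by decide +kernel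

theorem rot2_3 : T.rot 2 [1, 2, 1, 2, 1, 2, 1] (sel (ones 128) ip2 3) = true := by decide +kernel

theorem rot2_3r : band (Rule.ok (2 * 5) EX RL ⟨2 :: [1, 2, 1, 2, 1, 2, 1], [], 6, true⟩) (lall (memL L) [1, 2, 1, 2, 1, 2, 1]) = true := by decide +kernel

theorem rot2_4 : T.rot 2 [4, 2, 4, 2, 3, 5, 3] (sel (ones 128) ip2 4) = true := by decide +kernel

theorem rot2_4r : band (Rule.ok (2 * 5) EX RL ⟨2 :: [4, 2, 4, 2, 3, 5, 3], [4], 11, true⟩) (lall (memL L) [4, 2, 4, 2, 3, 5, 3]) = true := by decide +kernel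

theorem rot2_5 : T.rot 2 [4, 2, 3, 5, 3, 2, 4] (sel (ones 128) ip2 5) = true := by decide +kernel

theorem rot2_5r : band (Rule.ok (2 * 5) EX RL ⟨2 :: [4, 2, 3, 5, 3, 2, 4], [4, 2, 6], 11, true⟩) (lall (memL L) [4, 2, 3, 5, 3, 2, 4]) = true := by decide +kernel

theorem rot2_6 : T.rot 2 [3, 5, 3, 2, 4, 2, 4] (sel (ones 128) ip2 6) = true := by decide +kernel

theorem rot2_6r : band (Rule.ok (2 * 5) EX RL ⟨2 :: [3, 5, 3, 2, 4, 2, 4], [4, 2], 11, false⟩) (lall (memL L) [3, 5, 3, 2, 4, 2, 4]) = true := by decide +kernel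

theorem rot2_7 : T.rot 2 [5, 1, 4, 5, 1, 4, 9, 1] (sel (ones 128) ip2 7) = true := by decide +kernel

theorem rot2_7r : band (Rule.ok (2 * 5) EX RL ⟨2 :: [5, 1, 4, 5, 1, 4, 9, 1], [0], 21, true⟩) (lall (memL L) [5, 1, 4, 5, 1, 4, 9, 1]) = true := by decide +kernel

theorem rot2_8 : T.rot 2 [1, 8, 4, 1, 5, 4, 1, 5] (sel (ones 128) ip2 8) = true := by decide +kernel

theorem rot2_8r : band (Rule.ok (2 * 5) EX RL ⟨2 :: [1, 8, 4, 1, 5, 4, 1, 5], [0, 2], 21, false⟩) (lall (memL L) [1, 8, 4, 1, 5, 4, 1, 5]) = true := by decide +kernel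

theorem rot2_9 : T.rot 2 [4, 2, 4, 1, 4, 2, 4, 2, 5, 1] (sel (ones 128) ip2 9) = true := by decide +kernel

theorem rot2_9r : band (Rule.ok (2 * 5) EX RL ⟨2 :: [4, 2, 4, 1, 4, 2, 4, 2, 5, 1], [0], 12, true⟩) (lall (memL L) [4, 2, 4, 1, 4, 2, 4, 2, 5, 1]) = true := by decide +kernel

theorem rot2_10 : T.rot 2 [4, 1, 4, 2, 4, 2, 5, 1, 2, 4] (sel (ones 128) ip2 10) = true := by decide +kernel

theorem rot2_10r : band (Rule.ok (2 * 5) EX RL ⟨2 :: [4, 1, 4, 2, 4, 2, 5, 1, 2, 4], [0, 2, 6], 12, true⟩) (lall (memL L) [4, 1, 4, 2, 4, 2, 5, 1, 2, 4]) = true := by decide +kernel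

theorem rot2_11 : T.rot 2 [4, 2, 5, 1, 2, 4, 2, 4, 1, 4] (sel (ones 128) ip2 11) = true := by decide +kernel

theorem rot2_11r : band (Rule.ok (2 * 5) EX RL ⟨2 :: [4, 2, 5, 1, 2, 4, 2, 4, 1, 4], [8, 2, 6, 2], 12, true⟩) (lall (memL L) [4, 2, 5, 1, 2, 4, 2, 4, 1, 4]) = true := by decide +kernel

theorem rot2_12 : T.rot 2 [5, 1, 2, 4, 2, 4, 1, 4, 2, 4] (sel (ones 128) ip2 12) = true := by decide +kernel

theorem rot2_12r : band (Rule.ok (2 * 5) EX RL ⟨2 :: [5, 1, 2, 4, 2, 4, 1, 4, 2, 4], [8, 2], 12, true⟩) (lall (memL L) [5, 1, 2, 4, 2, 4, 1, 4, 2, 4]) = true := by decide +kernel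

theorem rot2_13 : T.rot 2 [4, 2, 4, 1, 4, 2, 4, 2, 1, 5] (sel (ones 128) ip2 13) = true := by decide +kernel

theorem rot2_13r : band (Rule.ok (2 * 5) EX RL ⟨2 :: [4, 2, 4, 1, 4, 2, 4, 2, 1, 5], [8], 12, false⟩) (lall (memL L) [4, 2, 4, 1, 4, 2, 4, 2, 1, 5]) = true := by decide +kernel

theorem rot2_14 : T.rot 2 [4, 1, 4, 2, 4, 2, 1, 5, 2, 4] (sel (ones 128) ip2 14) = true := by decide +kernel

theorem rot2_14r : band (Rule.ok (2 * 5) EX RL ⟨2 :: [4, 1, 4, 2, 4, 2, 1, 5, 2, 4], [8, 2, 6], 12, false⟩) (lall (memL L) [4, 1, 4, 2, 4, 2, 1, 5, 2, 4]) = true := by decide +kernel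

theorem rot2_15 : T.rot 2 [1, 5, 2, 4, 2, 4, 1, 4, 2, 4] (sel (ones 128) ip2 15) = true := by decide +kernel

theorem rot2_15r : band (Rule.ok (2 * 5) EX RL ⟨2 :: [1, 5, 2, 4, 2, 4, 1, 4, 2, 4], [0, 2], 12, false⟩) (lall (memL L) [1, 5, 2, 4, 2, 4, 1, 4, 2, 4]) = true := by decide +kernel

theorem rot2_16 : T.rot 2 [3, 2, 4, 3, 5, 2, 3, 8, 7, 4, 3] (sel (ones 128) ip2 16) = true := by decide +kernel

theorem rot2_16r : band (Rule.ok (2 * 5) EX RL ⟨2 :: [3, 2, 4, 3, 5, 2, 3, 8, 7, 4, 3], [], 22, true⟩) (lall (memL L) [3, 2, 4, 3, 5, 2, 3, 8, 7, 4, 3]) = true := by decide +kernel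

theorem rot2_17 : T.rot 2 [3, 8, 7, 4, 3, 2, 3, 2, 4, 3, 5] (sel (ones 128) ip2 17) = true := by decide +kernel

theorem rot2_17r : band (Rule.ok (2 * 5) EX RL ⟨2 :: [3, 8, 7, 4, 3, 2, 3, 2, 4, 3, 5], [2, 4, 2, 6, 4, 8], 22, true⟩) (lall (memL L) [3, 8, 7, 4, 3, 2, 3, 2, 4, 3, 5]) = true := by decide +kernel

theorem rot2_18 : T.rot 2 [5, 3, 4, 2, 3, 2, 3, 4, 6, 9, 3] (sel (ones 128) ip2 18) = true := by decide +kernel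

theorem rot2_18r : band (Rule.ok (2 * 5) EX RL ⟨2 :: [5, 3, 4, 2, 3, 2, 3, 4, 6, 9, 3], [2, 4, 2, 6, 4, 8, 2], 22, false⟩) (lall (memL L) [5, 3, 4, 2, 3, 2, 3, 4, 6, 9, 3]) = true := by decide +kernel

theorem rot2_19 : T.rot 2 [3, 4, 6, 9, 3, 2, 5, 3, 4, 2, 3] (sel (ones 128) ip2 19) = true := by decide +kernel

theorem rot2_19r : band (Rule.ok (2 * 5) EX RL ⟨2 :: [3, 4, 6, 9, 3, 2, 5, 3, 4, 2, 3], [2], 22, false⟩) (lall (memL L) [3, 4, 6, 9, 3, 2, 5, 3, 4, 2, 3]) = true := by decide +kernel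

theorem rot2_20 : T.rot 2 [4, 1, 4, 2, 1, 2, 1, 4, 1, 4, 1, 2, 1] (sel (ones 128) ip2 20) = true := by decide +kernel

theorem rot2_20r : band (Rule.ok (2 * 5) EX RL ⟨2 :: [4, 1, 4, 2, 1, 2, 1, 4, 1, 4, 1, 2, 1], [0, 2, 0], 8, true⟩) (lall (memL L) [4, 1, 4, 2, 1, 2, 1, 4, 1, 4, 1, 2, 1]) = true := by decide +kernel

theorem rot2_21 : T.rot 2 [1, 2, 1, 4, 1, 4, 1, 2, 1, 2, 4, 1, 4] (sel (ones 128) ip2 21) = true := by decide +kernel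

theorem rot2_21r : band (Rule.ok (2 * 5) EX RL ⟨2 :: [1, 2, 1, 4, 1, 4, 1, 2, 1, 2, 4, 1, 4], [0, 2, 0, 2], 8, false⟩) (lall (memL L) [1, 2, 1, 4, 1, 4, 1, 2, 1, 2, 4, 1, 4]) = true := by decide +kernel

theorem rot2_22 : T.rot 2 [1, 4, 1, 4, 1, 2, 1, 2, 4, 1, 4, 2, 1] (sel (ones 128) ip2 22) = true := by decide +kernel

theorem rot2_22r : band (Rule.ok (2 * 5) EX RL ⟨2 :: [1, 4, 1, 4, 1, 2, 1, 2, 4, 1, 4, 2, 1], [0, 2], 8, false⟩) (lall (memL L) [1, 4, 1, 4, 1, 2, 1, 2, 4, 1, 4, 2, 1]) = true := by decide +kernel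

theorem rot2_23 : T.rot 2 [3, 2, 3, 4, 2, 3, 2, 3, 4, 3, 2, 3, 2, 4] (sel (ones 128) ip2 23) = true := by decide +kernel

theorem rot2_23r : band (Rule.ok (2 * 5) EX RL ⟨2 :: [3, 2, 3, 4, 2, 3, 2, 3, 4, 3, 2, 3, 2, 4], [], 3, true⟩) (lall (memL L) [3, 2, 3, 4, 2, 3, 2, 3, 4, 3, 2, 3, 2, 4]) = true := by decide +kernel

theorem rot2_24 : T.rot 2 [3, 2, 4, 2, 3, 2, 3, 4, 2, 3, 2, 3, 4, 3] (sel (ones 128) ip2 24) = true := by decide +kernel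

theorem rot2_24r : band (Rule.ok (2 * 5) EX RL ⟨2 :: [3, 2, 4, 2, 3, 2, 3, 4, 2, 3, 2, 3, 4, 3], [6, 2, 4, 2], 3, true⟩) (lall (memL L) [3, 2, 4, 2, 3, 2, 3, 4, 2, 3, 2, 3, 4, 3]) = true := by decide +kernel

theorem rot2_25 : T.rot 2 [4, 2, 3, 2, 3, 4, 2, 3, 2, 3, 4, 3, 2, 3] (sel (ones 128) ip2 25) = true := by decide +kernel

theorem rot2_25r : band (Rule.ok (2 * 5) EX RL ⟨2 :: [4, 2, 3, 2, 3, 4, 2, 3, 2, 3, 4, 3, 2, 3], [6, 2], 3, true⟩) (lall (memL L) [4, 2, 3, 2, 3, 4, 2, 3, 2, 3, 4, 3, 2, 3]) = true := by decide +kernel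

theorem rot2_26 : T.rot 2 [4, 2, 3, 2, 3, 4, 3, 2, 3, 2, 4, 3, 2, 3] (sel (ones 128) ip2 26) = true := by decide +kernel

theorem rot2_26r : band (Rule.ok (2 * 5) EX RL ⟨2 :: [4, 2, 3, 2, 3, 4, 3, 2, 3, 2, 4, 3, 2, 3], [2], 3, false⟩) (lall (memL L) [4, 2, 3, 2, 3, 4, 3, 2, 3, 2, 4, 3, 2, 3]) = true := by decide +kernel

theorem rot2_27 : T.rot 2 [4, 3, 4, 3, 2, 4, 3, 4, 3, 2, 3, 1, 3, 1, 3, 1] (sel (ones 128) ip2 27) = true := by decide +kernel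

theorem rot2_27r : band (Rule.ok (2 * 5) EX RL ⟨2 :: [4, 3, 4, 3, 2, 4, 3, 4, 3, 2, 3, 1, 3, 1, 3, 1], [], 13, true⟩) (lall (memL L) [4, 3, 4, 3, 2, 4, 3, 4, 3, 2, 3, 1, 3, 1, 3, 1]) = true := by decide +kernel

theorem rot2_28 : T.rot 2 [3, 1, 3, 1, 3, 1, 2, 4, 3, 4, 3, 2, 4, 3, 4, 3] (sel (ones 128) ip2 28) = true := by decide +kernel

theorem rot2_28r : band (Rule.ok (2 * 5) EX RL ⟨2 :: [3, 1, 3, 1, 3, 1, 2, 4, 3, 4, 3, 2, 4, 3, 4, 3], [0, 4, 0, 4, 0, 4, 2], 13, true⟩) (lall (memL L) [3, 1, 3, 1, 3, 1, 2, 4, 3, 4, 3, 2, 4, 3, 4, 3]) = true := by decide +kernel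

theorem rot2_29 : T.rot 2 [3, 4, 3, 4, 2, 3, 4, 3, 4, 2, 1, 3, 1, 3, 1, 3] (sel (ones 128) ip2 29) = true := by decide +kernel

theorem rot2_29r : band (Rule.ok (2 * 5) EX RL ⟨2 :: [3, 4, 3, 4, 2, 3, 4, 3, 4, 2, 1, 3, 1, 3, 1, 3], [0, 4, 0, 4, 0, 4], 13, false⟩) (lall (memL L) [3, 4, 3, 4, 2, 3, 4, 3, 4, 2, 1, 3, 1, 3, 1, 3]) = true := by decide +kernel

theorem rot2_30 : T.rot 2 [1, 3, 1, 3, 1, 3, 2, 3, 4, 3, 4, 2, 3, 4, 3, 4] (sel (ones 128) ip2 30) = true := by decide +kernel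

theorem rot2_30r : band (Rule.ok (2 * 5) EX RL ⟨2 :: [1, 3, 1, 3, 1, 3, 2, 3, 4, 3, 4, 2, 3, 4, 3, 4], [2], 13, false⟩) (lall (memL L) [1, 3, 1, 3, 1, 3, 2, 3, 4, 3, 4, 2, 3, 4, 3, 4]) = true := by decide +kernel

theorem rot2_31 : T.rot 2 [4, 1, 2, 4, 1, 2, 4, 1, 2, 4, 1, 2, 4, 1, 2, 4, 1] (sel (ones 128) ip2 31) = true := by decide +kernel

theorem rot2_31r : band (Rule.ok (2 * 5) EX RL ⟨2 :: [4, 1, 2, 4, 1, 2, 4, 1, 2, 4, 1, 2, 4, 1, 2, 4, 1], [0], 10, true⟩) (lall (memL L) [4, 1, 2, 4, 1, 2, 4, 1, 2, 4, 1, 2, 4, 1, 2, 4, 1]) = true := by decide +kernel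

theorem rot2_32 : T.rot 2 [1, 4, 2, 1, 4, 2, 1, 4, 2, 1, 4, 2, 1, 4, 2, 1, 4] (sel (ones 128) ip2 32) = true := by decide +kernel

theorem rot2_32r : band (Rule.ok (2 * 5) EX RL ⟨2 :: [1, 4, 2, 1, 4, 2, 1, 4, 2, 1, 4, 2, 1, 4, 2, 1, 4], [6], 10, false⟩) (lall (memL L) [1, 4, 2, 1, 4, 2, 1, 4, 2, 1, 4, 2, 1, 4, 2, 1, 4]) = true := by decide +kernel

theorem rot2_33 : T.rot 2 [3, 4, 2, 3, 2, 4, 3, 2, 4, 3, 1, 3, 4, 3, 1, 3, 4] (sel (ones 128) ip2 33) = true := by decide +kernel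

theorem rot2_33r : band (Rule.ok (2 * 5) EX RL ⟨2 :: [3, 4, 2, 3, 2, 4, 3, 2, 4, 3, 1, 3, 4, 3, 1, 3, 4], [4, 6], 15, false⟩) (lall (memL L) [3, 4, 2, 3, 2, 4, 3, 2, 4, 3, 1, 3, 4, 3, 1, 3, 4]) = true := by decide +kernel

theorem rot2_34 : T.rot 2 [4, 3, 4, 2, 4, 2, 3, 4, 2, 3, 2, 4, 2, 1, 4, 2, 4, 1, 4] (sel (ones 128) ip2 34) = true := by decide +kernel

theorem rot2_34r : band (Rule.ok (2 * 5) EX RL ⟨2 :: [4, 3, 4, 2, 4, 2, 3, 4, 2, 3, 2, 4, 2, 1, 4, 2, 4, 1, 4], [0, 6, 2, 6, 0, 6], 19, true⟩) (lall (memL L) [4, 3, 4, 2, 4, 2, 3, 4, 2, 3, 2, 4, 2, 1, 4, 2, 4, 1, 4]) = true := by decide +kernel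

theorem rot2_35 : T.rot 2 [3, 4, 2, 3, 2, 4, 2, 1, 4, 2, 4, 1, 4, 2, 4, 3, 4, 2, 4] (sel (ones 128) ip2 35) = true := by decide +kernel

theorem rot2_35r : band (Rule.ok (2 * 5) EX RL ⟨2 :: [3, 4, 2, 3, 2, 4, 2, 1, 4, 2, 4, 1, 4, 2, 4, 3, 4, 2, 4], [2, 6, 2, 4, 2, 6, 4, 2], 19, true⟩) (lall (memL L) [3, 4, 2, 3, 2, 4, 2, 1, 4, 2, 4, 1, 4, 2, 4, 3, 4, 2, 4]) = true := by decide +kernel

theorem rot2_36 : T.rot 2 [4, 2, 1, 4, 2, 4, 1, 4, 2, 4, 3, 4, 2, 4, 2, 3, 4, 2, 3] (sel (ones 128) ip2 36) = true := by decide +kernel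

theorem rot2_36r : band (Rule.ok (2 * 5) EX RL ⟨2 :: [4, 2, 1, 4, 2, 4, 1, 4, 2, 4, 3, 4, 2, 4, 2, 3, 4, 2, 3], [2, 6, 2], 19, true⟩) (lall (memL L) [4, 2, 1, 4, 2, 4, 1, 4, 2, 4, 3, 4, 2, 4, 2, 3, 4, 2, 3]) = true := by decide +kernel

theorem rot2_37 : T.rot 2 [4, 2, 3, 2, 4, 3, 2, 4, 2, 4, 3, 4, 2, 4, 1, 4, 2, 4, 1] (sel (ones 128) ip2 37) = true := by decide +kernel

theorem rot2_37r : band (Rule.ok (2 * 5) EX RL ⟨2 :: [4, 2, 3, 2, 4, 3, 2, 4, 2, 4, 3, 4, 2, 4, 1, 4, 2, 4, 1], [], 19, false⟩) (lall (memL L) [4, 2, 3, 2, 4, 3, 2, 4, 2, 4, 3, 4, 2, 4, 1, 4, 2, 4, 1]) = true := by decide +kernel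

theorem rot2_38 : T.rot 2 [3, 2, 4, 3, 2, 4, 2, 4, 3, 4, 2, 4, 1, 4, 2, 4, 1, 2, 4] (sel (ones 128) ip2 38) = true := by decide +kernel

theorem rot2_38r : band (Rule.ok (2 * 5) EX RL ⟨2 :: [3, 2, 4, 3, 2, 4, 2, 4, 3, 4, 2, 4, 1, 4, 2, 4, 1, 2, 4], [2, 6], 19, false⟩) (lall (memL L) [3, 2, 4, 3, 2, 4, 2, 4, 3, 4, 2, 4, 1, 4, 2, 4, 1, 2, 4]) = true := by decide +kernel

theorem rot2_39 : T.rot 2 [1, 4, 2, 4, 1, 4, 2, 4, 1, 2, 4, 1, 4, 2, 4, 1, 2, 1, 4, 1, 2, 4] (sel (ones 128) ip2 39) = true := by decide +kernel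

theorem rot2_39r : band (Rule.ok (2 * 5) EX RL ⟨2 :: [1, 4, 2, 4, 1, 4, 2, 4, 1, 2, 4, 1, 4, 2, 4, 1, 2, 1, 4, 1, 2, 4], [0, 2, 0, 6, 0, 2, 6], 9, true⟩) (lall (memL L) [1, 4, 2, 4, 1, 4, 2, 4, 1, 2, 4, 1, 4, 2, 4, 1, 2, 1, 4, 1, 2, 4]) = true := by decide +kernel

theorem rot2_40 : T.rot 2 [4, 2, 1, 4, 1, 2, 1, 4, 2, 4, 1, 4, 2, 1, 4, 2, 4, 1, 4, 2, 4, 1] (sel (ones 128) ip2 40) = true := by decide +kernel

theorem rot2_40r : band (Rule.ok (2 * 5) EX RL ⟨2 :: [4, 2, 1, 4, 1, 2, 1, 4, 2, 4, 1, 4, 2, 1, 4, 2, 4, 1, 4, 2, 4, 1], [0, 2, 0, 6, 0, 2, 6, 2], 9, false⟩) (lall (memL L) [4, 2, 1, 4, 1, 2, 1, 4, 2, 4, 1, 4, 2, 1, 4, 2, 4, 1, 4, 2, 4, 1]) = true := by decide +kernel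

theorem rot2_41 : T.rot 2 [4, 2, 3, 2, 4, 3, 2, 3, 4, 3, 2, 4, 3, 2, 4, 3, 2, 4, 3, 2, 4, 3, 2, 4] (sel (ones 128) ip2 41) = true := by decide +kernel

theorem rot2_41r : band (Rule.ok (2 * 5) EX RL ⟨2 :: [4, 2, 3, 2, 4, 3, 2, 3, 4, 3, 2, 4, 3, 2, 4, 3, 2, 4, 3, 2, 4, 3, 2, 4], [2, 4, 2, 6, 2], 5, false⟩) (lall (memL L) [4, 2, 3, 2, 4, 3, 2, 3, 4, 3, 2, 4, 3, 2, 4, 3, 2, 4, 3, 2, 4, 3, 2, 4]) = true := by decide +kernel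

theorem rot2_42 : T.rot 2 [4, 2, 3, 4, 3, 2, 3, 4, 3, 2, 4, 2, 3, 1, 3, 2, 3, 4, 3, 2, 1, 3, 4, 1] (sel (ones 128) ip2 42) = true := by decide +kernel

theorem rot2_42r : band (Rule.ok (2 * 5) EX RL ⟨2 :: [4, 2, 3, 4, 3, 2, 3, 4, 3, 2, 4, 2, 3, 1, 3, 2, 3, 4, 3, 2, 1, 3, 4, 1], [0, 4, 2, 4, 6, 4, 2, 0, 4, 6, 0], 17, true⟩) (lall (memL L) [4, 2, 3, 4, 3, 2, 3, 4, 3, 2, 4, 2, 3, 1, 3, 2, 3, 4, 3, 2, 1, 3, 4, 1]) = true := by decide +kernel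

theorem rot2_43 : T.rot 2 [4, 2, 3, 1, 3, 2, 3, 4, 3, 2, 1, 3, 4, 1, 2, 4, 2, 3, 4, 3, 2, 3, 4, 3] (sel (ones 128) ip2 43) = true := by decide +kernel

theorem rot2_43r : band (Rule.ok (2 * 5) EX RL ⟨2 :: [4, 2, 3, 1, 3, 2, 3, 4, 3, 2, 1, 3, 4, 1, 2, 4, 2, 3, 4, 3, 2, 3, 4, 3], [4, 2, 6, 2], 17, true⟩) (lall (memL L) [4, 2, 3, 1, 3, 2, 3, 4, 3, 2, 1, 3, 4, 1, 2, 4, 2, 3, 4, 3, 2, 3, 4, 3]) = true := by decide +kernel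

theorem rot2_44 : T.rot 2 [1, 4, 3, 1, 2, 3, 4, 3, 2, 3, 1, 3, 2, 4, 2, 3, 4, 3, 2, 3, 4, 3, 2, 4] (sel (ones 128) ip2 44) = true := by decide +kernel

theorem rot2_44r : band (Rule.ok (2 * 5) EX RL ⟨2 :: [1, 4, 3, 1, 2, 3, 4, 3, 2, 3, 1, 3, 2, 4, 2, 3, 4, 3, 2, 3, 4, 3, 2, 4], [0, 4, 2, 4, 6, 4, 2, 0, 4, 6, 0, 2], 17, false⟩) (lall (memL L) [1, 4, 3, 1, 2, 3, 4, 3, 2, 3, 1, 3, 2, 4, 2, 3, 4, 3, 2, 3, 4, 3, 2, 4]) = true := by decide +kernel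

theorem rot2_45 : T.rot 2 [3, 4, 2, 4, 1, 3, 4, 1, 4, 2, 4, 3, 2, 3, 4, 3, 2, 4, 3, 4, 3, 2, 3, 4, 1, 3] (sel (ones 128) ip2 45) = true := by decide +kernel

theorem rot2_45r : band (Rule.ok (2 * 5) EX RL ⟨2 :: [3, 4, 2, 4, 1, 3, 4, 1, 4, 2, 4, 3, 2, 3, 4, 3, 2, 4, 3, 4, 3, 2, 3, 4, 1, 3], [0, 4], 16, true⟩) (lall (memL L) [3, 4, 2, 4, 1, 3, 4, 1, 4, 2, 4, 3, 2, 3, 4, 3, 2, 4, 3, 4, 3, 2, 3, 4, 1, 3]) = true := by decide +kernel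

theorem rot2_46 : T.rot 2 [4, 1, 3, 4, 1, 4, 2, 4, 3, 2, 3, 4, 3, 2, 4, 3, 4, 3, 2, 3, 4, 1, 3, 2, 3, 4] (sel (ones 128) ip2 46) = true := by decide +kernel

theorem rot2_46r : band (Rule.ok (2 * 5) EX RL ⟨2 :: [4, 1, 3, 4, 1, 4, 2, 4, 3, 2, 3, 4, 3, 2, 4, 3, 4, 3, 2, 3, 4, 1, 3, 2, 3, 4], [0, 4, 2, 4, 6], 16, true⟩) (lall (memL L) [4, 1, 3, 4, 1, 4, 2, 4, 3, 2, 3, 4, 3, 2, 4, 3, 4, 3, 2, 3, 4, 1, 3, 2, 3, 4]) = true := by decide +kernel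

theorem rot2_47 : T.rot 2 [4, 1, 4, 3, 1, 4, 2, 4, 3, 2, 3, 1, 4, 3, 2, 3, 4, 3, 4, 2, 3, 4, 3, 2, 3, 4] (sel (ones 128) ip2 47) = true := by decide +kernel

theorem rot2_47r : band (Rule.ok (2 * 5) EX RL ⟨2 :: [4, 1, 4, 3, 1, 4, 2, 4, 3, 2, 3, 1, 4, 3, 2, 3, 4, 3, 4, 2, 3, 4, 3, 2, 3, 4], [0, 4, 2, 4, 6, 2, 6, 0, 4, 6, 0, 6, 2], 16, false⟩) (lall (memL L) [4, 1, 4, 3, 1, 4, 2, 4, 3, 2, 3, 1, 4, 3, 2, 3, 4, 3, 4, 2, 3, 4, 3, 2, 3, 4]) = true := by decide +kernel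

theorem rot2_48 : T.rot 2 [3, 1, 4, 3, 2, 3, 4, 3, 4, 2, 3, 4, 3, 2, 3, 4, 2, 4, 1, 4, 3, 1, 4, 2, 4, 3] (sel (ones 128) ip2 48) = true := by decide +kernel

theorem rot2_48r : band (Rule.ok (2 * 5) EX RL ⟨2 :: [3, 1, 4, 3, 2, 3, 4, 3, 4, 2, 3, 4, 3, 2, 3, 4, 2, 4, 1, 4, 3, 1, 4, 2, 4, 3], [0, 4, 2], 16, false⟩) (lall (memL L) [3, 1, 4, 3, 2, 3, 4, 3, 4, 2, 3, 4, 3, 2, 3, 4, 2, 4, 1, 4, 3, 1, 4, 2, 4, 3]) = true := by decide +kernel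

theorem cov2 : T.cover 2 [(sel (ones 128) ip2 1), (sel (ones 128) ip2 2), (sel (ones 128) ip2 3), (sel (ones 128) ip2 4), (sel (ones 128) ip2 5), (sel (ones 128) ip2 6), (sel (ones 128) ip2 7), (sel (ones 128) ip2 8), (sel (ones 128) ip2 9), (sel (ones 128) ip2 10), (sel (ones 128) ip2 11), (sel (ones 128) ip2 12), (sel (ones 128) ip2 13), (sel (ones 128) ip2 14), (sel (ones 128) ip2 15), (sel (ones 128) ip2 16), (sel (ones 128) ip2 17), (sel (ones 128) ip2 18), (sel (ones 128) ip2 19), (sel (ones 128) ip2 20), (sel (ones 128) ip2 21), (sel (ones 128) ip2 22), (sel (ones 128) ip2 23), (sel (ones 128) ip2 24), (sel (ones 128) ip2 25), (sel (ones 128) ip2 26), (sel (ones 128) ip2 27), (sel (ones 128) ip2 28), (sel (ones 128) ip2 29), (sel (ones 128) ip2 30), (sel (ones 128) ip2 31), (sel (ones 128) ip2 32), (sel (ones 128)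 ip2 33), (sel (ones 128) ip2 34), (sel (ones 128) ip2 35), (sel (ones 128) ip2 36), (sel (ones 128) ip2 37), (sel (ones 128) ip2 38), (sel (ones 128) ip2 39), (sel (ones 128) ip2 40), (sel (ones 128) ip2 41), (sel (ones 128) ip2 42), (sel (ones 128) ip2 43), (sel (ones 128) ip2 44), (sel (ones 128) ip2 45), (sel (ones 128) ip2 46), (sel (ones 128) ip2 47), (sel (ones 128) ip2 48)] = true := by decide +kernel

theorem tl2 : T.treeLt 7 2 = true := by decide +kernel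

theorem rot3_1 : T.rot 3 [3] (sel (ones 128) ip3 1) = true := by decide +kernel

theorem rot3_1r : band (Rule.ok (2 * 5) EX RL ⟨3 :: [3], [], 23, false⟩) (lall (memL L) [3]) = true := by decide +kernel

theorem rot3_2 : T.rot 3 [2, 3, 2, 3, 2, 3, 2] (sel (ones 128) ip3 2) = true := by decide +kernel

theorem rot3_2r : band (Rule.ok (2 * 5) EX RL ⟨3 :: [2, 3, 2, 3, 2, 3, 2], [], 0, true⟩) (lall (memL L) [2, 3, 2, 3, 2, 3, 2]) = true := by decide +kernel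

theorem rot3_3 : T.rot 3 [4, 3, 4, 3, 4, 3, 4] (sel (ones 128) ip3 3) = true := by decide +kernel

theorem rot3_3r : band (Rule.ok (2 * 5) EX RL ⟨3 :: [4, 3, 4, 3, 4, 3, 4], [], 2, false⟩) (lall (memL L) [4, 3, 4, 3, 4, 3, 4]) = true := by decide +kernel

theorem rot3_4 : T.rot 3 [2, 4, 2, 4, 2, 3, 5] (sel (ones 128) ip3 4) = true := by decide +kernel

theorem rot3_4r : band (Rule.ok (2 * 5) EX RL ⟨3 :: [2, 4, 2, 4, 2, 3, 5], [], 11, true⟩) (lall (memL L) [2, 4, 2, 4, 2, 3, 5]) = true := by decide +kernel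

theorem rot3_5 : T.rot 3 [5, 3, 2, 4, 2, 4, 2] (sel (ones 128) ip3 5) = true := by decide +kernel

theorem rot3_5r : band (Rule.ok (2 * 5) EX RL ⟨3 :: [5, 3, 2, 4, 2, 4, 2], [4], 11, false⟩) (lall (memL L) [5, 3, 2, 4, 2, 4, 2]) = true := by decide +kernel

theorem rot3_6 : T.rot 3 [1, 3, 1, 3, 1, 3, 1, 3, 1, 3, 1] (sel (ones 128) ip3 6) = true := by decide +kernel

theorem rot3_6r : band (Rule.ok (2 * 5) EX RL ⟨3 :: [1, 3, 1, 3, 1, 3, 1, 3, 1, 3, 1], [], 14, true⟩) (lall (memL L) [1, 3, 1, 3, 1, 3, 1, 3, 1, 3, 1]) = true := by decide +kernel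

theorem rot3_7 : T.rot 3 [2, 5, 3, 4, 2, 3, 2, 3, 4, 6, 9] (sel (ones 128) ip3 7) = true := by decide +kernel

theorem rot3_7r : band (Rule.ok (2 * 5) EX RL ⟨3 :: [2, 5, 3, 4, 2, 3, 2, 3, 4, 6, 9], [2, 4, 2, 6, 4, 8, 2, 4], 22, false⟩) (lall (memL L) [2, 5, 3, 4, 2, 3, 2, 3, 4, 6, 9]) = true := by decide +kernel

theorem rot3_8 : T.rot 3 [4, 2, 3, 2, 3, 4, 6, 9, 3, 2, 5] (sel (ones 128) ip3 8) = true := by decide +kernel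

theorem rot3_8r : band (Rule.ok (2 * 5) EX RL ⟨3 :: [4, 2, 3, 2, 3, 4, 6, 9, 3, 2, 5], [2, 4, 2, 6, 4], 22, false⟩) (lall (memL L) [4, 2, 3, 2, 3, 4, 6, 9, 3, 2, 5]) = true := by decide +kernel

theorem rot3_9 : T.rot 3 [4, 2, 3, 2, 3, 4, 3, 2, 3, 2, 4, 2, 3, 2] (sel (ones 128) ip3 9) = true := by decide +kernel

theorem rot3_9r : band (Rule.ok (2 * 5) EX RL ⟨3 :: [4, 2, 3, 2, 3, 4, 3, 2, 3, 2, 4, 2, 3, 2], [2, 4, 2], 3, true⟩) (lall (memL L) [4, 2, 3, 2, 3, 4, 3, 2, 3, 2, 4, 2, 3, 2]) = true := by decide +kernel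

theorem rot3_10 : T.rot 3 [4, 3, 2, 3, 2, 4, 2, 3, 2, 3, 4, 2, 3, 2] (sel (ones 128) ip3 10) = true := by decide +kernel

theorem rot3_10r : band (Rule.ok (2 * 5) EX RL ⟨3 :: [4, 3, 2, 3, 2, 4, 2, 3, 2, 3, 4, 2, 3, 2], [6, 2, 4, 2, 4, 6, 4], 3, true⟩) (lall (memL L) [4, 3, 2, 3, 2, 4, 2, 3, 2, 3, 4, 2, 3, 2]) = true := by decide +kernel

theorem rot3_11 : T.rot 3 [2, 4, 2, 3, 2, 3, 4, 2, 3, 2, 3, 4, 3, 2] (sel (ones 128) ip3 11) = true := by decide +kernel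

theorem rot3_11r : band (Rule.ok (2 * 5) EX RL ⟨3 :: [2, 4, 2, 3, 2, 3, 4, 2, 3, 2, 3, 4, 3, 2], [6, 2, 4], 3, true⟩) (lall (memL L) [2, 4, 2, 3, 2, 3, 4, 2, 3, 2, 3, 4, 3, 2]) = true := by decide +kernel

theorem rot3_12 : T.rot 3 [2, 4, 2, 4, 2, 3, 1, 3, 2, 4, 2, 4, 2, 3, 1] (sel (ones 128) ip3 12) = true := by decide +kernel

theorem rot3_12r : band (Rule.ok (2 * 5) EX RL ⟨3 :: [2, 4, 2, 4, 2, 3, 1, 3, 2, 4, 2, 4, 2, 3, 1], [], 18, false⟩) (lall (memL L) [2, 4, 2, 4, 2, 3, 1, 3, 2, 4, 2, 4, 2, 3, 1]) = true := by decide +kernel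

theorem rot3_13 : T.rot 3 [1, 3, 2, 4, 2, 4, 2, 3, 1, 3, 2, 4, 2, 4, 2] (sel (ones 128) ip3 13) = true := by decide +kernel

theorem rot3_13r : band (Rule.ok (2 * 5) EX RL ⟨3 :: [1, 3, 2, 4, 2, 4, 2, 3, 1, 3, 2, 4, 2, 4, 2], [4], 18, true⟩) (lall (memL L) [1, 3, 2, 4, 2, 4, 2, 3, 1, 3, 2, 4, 2, 4, 2]) = true := by decide +kernel

theorem rot3_14 : T.rot 3 [4, 3, 2, 4, 3, 4, 3, 2, 3, 1, 3, 1, 3, 1, 2, 4] (sel (ones 128) ip3 14) = true := by decide +kernel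

theorem rot3_14r : band (Rule.ok (2 * 5) EX RL ⟨3 :: [4, 3, 2, 4, 3, 4, 3, 2, 3, 1, 3, 1, 3, 1, 2, 4], [2, 6], 13, true⟩) (lall (memL L) [4, 3, 2, 4, 3, 4, 3, 2, 3, 1, 3, 1, 3, 1, 2, 4]) = true := by decide +kernel

theorem rot3_15 : T.rot 3 [4, 3, 2, 3, 1, 3, 1, 3, 1, 2, 4, 3, 4, 3, 2, 4] (sel (ones 128) ip3 15) = true := by decide +kernel

theorem rot3_15r : band (Rule.ok (2 * 5) EX RL ⟨3 :: [4, 3, 2, 3, 1, 3, 1, 3, 1, 2, 4, 3, 4, 3, 2, 4], [2, 6, 4, 6, 4, 2, 6], 13, true⟩) (lall (memL L) [4, 3, 2, 3, 1, 3, 1, 3, 1, 2, 4, 3, 4, 3, 2, 4]) = true := by decide +kernel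

theorem rot3_16 : T.rot 3 [1, 3, 1, 2, 4, 3, 4, 3, 2, 4, 3, 4, 3, 2, 3, 1] (sel (ones 128) ip3 16) = true := by decide +kernel

theorem rot3_16r : band (Rule.ok (2 * 5) EX RL ⟨3 :: [1, 3, 1, 2, 4, 3, 4, 3, 2, 4, 3, 4, 3, 2, 3, 1], [0, 4, 0, 4], 13, true⟩) (lall (memL L) [1, 3, 1, 2, 4, 3, 4, 3, 2, 4, 3, 4, 3, 2, 3, 1]) = true := by decide +kernel

theorem rot3_17 : T.rot 3 [1, 2, 4, 3, 4, 3, 2, 4, 3, 4, 3, 2, 3, 1, 3, 1] (sel (ones 128) ip3 17) = true := by decide +kernel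

theorem rot3_17r : band (Rule.ok (2 * 5) EX RL ⟨3 :: [1, 2, 4, 3, 4, 3, 2, 4, 3, 4, 3, 2, 3, 1, 3, 1], [0, 4], 13, true⟩) (lall (memL L) [1, 2, 4, 3, 4, 3, 2, 4, 3, 4, 3, 2, 3, 1, 3, 1]) = true := by decide +kernel

theorem rot3_18 : T.rot 3 [1, 3, 1, 3, 2, 3, 4, 3, 4, 2, 3, 4, 3, 4, 2, 1] (sel (ones 128) ip3 18) = true := by decide +kernel

theorem rot3_18r : band (Rule.ok (2 * 5) EX RL ⟨3 :: [1, 3, 1, 3, 2, 3, 4, 3, 4, 2, 3, 4, 3, 4, 2, 1], [0], 13, false⟩) (lall (memL L) [1, 3, 1, 3, 2, 3, 4, 3, 4, 2, 3, 4, 3, 4, 2, 1]) = true := by decide +kernel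

theorem rot3_19 : T.rot 3 [1, 3, 2, 3, 4, 3, 4, 2, 3, 4, 3, 4, 2, 1, 3, 1] (sel (ones 128) ip3 19) = true := by decide +kernel

theorem rot3_19r : band (Rule.ok (2 * 5) EX RL ⟨3 :: [1, 3, 2, 3, 4, 3, 4, 2, 3, 4, 3, 4, 2, 1, 3, 1], [0, 4, 0], 13, false⟩) (lall (memL L) [1, 3, 2, 3, 4, 3, 4, 2, 3, 4, 3, 4, 2, 1, 3, 1]) = true := by decide +kernel

theorem rot3_20 : T.rot 3 [4, 2, 3, 4, 3, 4, 2, 1, 3, 1, 3, 1, 3, 2, 3, 4] (sel (ones 128) ip3 20) = true := by decide +kernel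

theorem rot3_20r : band (Rule.ok (2 * 5) EX RL ⟨3 :: [4, 2, 3, 4, 3, 4, 2, 1, 3, 1, 3, 1, 3, 2, 3, 4], [2, 6, 4, 6, 4, 2, 6, 4], 13, false⟩) (lall (memL L) [4, 2, 3, 4, 3, 4, 2, 1, 3, 1, 3, 1, 3, 2, 3, 4]) = true := by decide +kernel

theorem rot3_21 : T.rot 3 [4, 2, 1, 3, 1, 3, 1, 3, 2, 3, 4, 3, 4, 2, 3, 4] (sel (ones 128) ip3 21) = true := by decide +kernel

theorem rot3_21r : band (Rule.ok (2 * 5) EX RL ⟨3 :: [4, 2, 1, 3, 1, 3, 1, 3, 2, 3, 4, 3, 4, 2, 3, 4], [2, 6, 4], 13, false⟩) (lall (memL L) [4, 2, 1, 3, 1, 3, 1, 3, 2, 3, 4, 3, 4, 2, 3, 4]) = true := by decide +kernel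

theorem rot3_22 : T.rot 3 [4, 3, 1, 3, 4, 2, 3, 4, 2, 3, 2, 4, 3, 2, 4, 3, 1] (sel (ones 128) ip3 22) = true := by decide +kernel

theorem rot3_22r : band (Rule.ok (2 * 5) EX RL ⟨3 :: [4, 3, 1, 3, 4, 2, 3, 4, 2, 3, 2, 4, 3, 2, 4, 3, 1], [0], 15, true⟩) (lall (memL L) [4, 3, 1, 3, 4, 2, 3, 4, 2, 3, 2, 4, 3, 2, 4, 3, 1]) = true := by decide +kernel

theorem rot3_23 : T.rot 3 [1, 3, 4, 2, 3, 4, 2, 3, 2, 4, 3, 2, 4, 3, 1, 3, 4] (sel (ones 128) ip3 23) = true := by decide +kernel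

theorem rot3_23r : band (Rule.ok (2 * 5) EX RL ⟨3 :: [1, 3, 4, 2, 3, 4, 2, 3, 2, 4, 3, 2, 4, 3, 1, 3, 4], [0, 4], 15, false⟩) (lall (memL L) [1, 3, 4, 2, 3, 4, 2, 3, 2, 4, 3, 2, 4, 3, 1, 3, 4]) = true := by decide +kernel

theorem rot3_24 : T.rot 3 [2, 4, 3, 2, 4, 3, 1, 3, 4, 3, 1, 3, 4, 2, 3, 4, 2] (sel (ones 128) ip3 24) = true := by decide +kernel

theorem rot3_24r : band (Rule.ok (2 * 5) EX RL ⟨3 :: [2, 4, 3, 2, 4, 3, 1, 3, 4, 3, 1, 3, 4, 2, 3, 4, 2], [4, 6, 2, 4, 6, 2], 15, false⟩) (lall (memL L) [2, 4, 3, 2, 4, 3, 1, 3, 4, 3, 1, 3, 4, 2, 3, 4, 2]) = true := by decide +kernel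

theorem rot3_25 : T.rot 3 [4, 2, 4, 2, 3, 4, 2, 3, 2, 4, 2, 1, 4, 2, 4, 1, 4, 2, 4] (sel (ones 128) ip3 25) = true := by decide +kernel

theorem rot3_25r : band (Rule.ok (2 * 5) EX RL ⟨3 :: [4, 2, 4, 2, 3, 4, 2, 3, 2, 4, 2, 1, 4, 2, 4, 1, 4, 2, 4], [0, 6, 2, 6, 0, 6, 2, 6], 19, true⟩) (lall (memL L) [4, 2, 4, 2, 3, 4, 2, 3, 2, 4, 2, 1, 4, 2, 4, 1, 4, 2, 4]) = true := by decide +kernel

theorem rot3_26 : T.rot 3 [4, 2, 3, 4, 3, 4, 2, 4, 2, 3, 4, 3, 4, 2, 4, 3, 2, 4, 3, 4, 2] (sel (ones 128) ip3 26) = true := by decide +kernel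

theorem rot3_26r : band (Rule.ok (2 * 5) EX RL ⟨3 :: [4, 2, 3, 4, 3, 4, 2, 4, 2, 3, 4, 3, 4, 2, 4, 3, 2, 4, 3, 4, 2], [2], 4, true⟩) (lall (memL L) [4, 2, 3, 4, 3, 4, 2, 4, 2, 3, 4, 3, 4, 2, 4, 3, 2, 4, 3, 4, 2]) = true := by decide +kernel

theorem rot3_27 : T.rot 3 [4, 3, 2, 4, 2, 4, 3, 4, 3, 2, 4, 3, 2, 4, 3, 4, 2, 3, 4, 2, 4] (sel (ones 128) ip3 27) = true := by decide +kernel

theorem rot3_27r : band (Rule.ok (2 * 5) EX RL ⟨3 :: [4, 3, 2, 4, 2, 4, 3, 4, 3, 2, 4, 3, 2, 4, 3, 4, 2, 3, 4, 2, 4], [6, 4, 6, 2, 4, 6, 2, 6], 4, false⟩) (lall (memL L) [4, 3, 2, 4, 2, 4, 3, 4, 3, 2, 4, 3, 2, 4, 3, 4, 2, 3, 4, 2, 4]) = true := by decide +kernel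

theorem rot3_28 : T.rot 3 [2, 4, 3, 4, 2, 3, 4, 2, 4, 3, 4, 3, 2, 4, 2, 4, 3, 4, 3, 2, 4] (sel (ones 128) ip3 28) = true := by decide +kernel

theorem rot3_28r : band (Rule.ok (2 * 5) EX RL ⟨3 :: [2, 4, 3, 4, 2, 3, 4, 2, 4, 3, 4, 3, 2, 4, 2, 4, 3, 4, 3, 2, 4], [2, 4], 4, false⟩) (lall (memL L) [2, 4, 3, 4, 2, 3, 4, 2, 4, 3, 4, 3, 2, 4, 2, 4, 3, 4, 3, 2, 4]) = true := by decide +kernel

theorem rot3_29 : T.rot 3 [4, 3, 2, 3, 4, 2, 3, 2, 4, 2, 4, 2, 3, 4, 2, 3, 4, 2, 3, 4, 2, 3, 4, 2] (sel (ones 128) ip3 29) = true := by decide +kernel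

theorem rot3_29r : band (Rule.ok (2 * 5) EX RL ⟨3 :: [4, 3, 2, 3, 4, 2, 3, 2, 4, 2, 4, 2, 3, 4, 2, 3, 4, 2, 3, 4, 2, 3, 4, 2], [6, 4, 2, 4, 6, 4], 5, true⟩) (lall (memL L) [4, 3, 2, 3, 4, 2, 3, 2, 4, 2, 4, 2, 3, 4, 2, 3, 4, 2, 3, 4, 2, 3, 4, 2]) = true := by decide +kernel

theorem rot3_30 : T.rot 3 [2, 4, 3, 2, 4, 3, 2, 4, 3, 2, 4, 3, 2, 4, 2, 4, 2, 3, 2, 4, 3, 2, 3, 4] (sel (ones 128) ip3 30) = true := by decide +kernel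

theorem rot3_30r : band (Rule.ok (2 * 5) EX RL ⟨3 :: [2, 4, 3, 2, 4, 3, 2, 4, 3, 2, 4, 3, 2, 4, 2, 4, 2, 3, 2, 4, 3, 2, 3, 4], [6, 4, 2, 4, 6], 5, false⟩) (lall (memL L) [2, 4, 3, 2, 4, 3, 2, 4, 3, 2, 4, 3, 2, 4, 2, 4, 2, 3, 2, 4, 3, 2, 3, 4]) = true := by decide +kernel

theorem rot3_31 : T.rot 3 [2, 3, 4, 3, 2, 1, 3, 4, 1, 2, 4, 2, 3, 4, 3, 2, 3, 4, 3, 2, 4, 2, 3, 1] (sel (ones 128) ip3 31) = true := by decide +kernel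

theorem rot3_31r : band (Rule.ok (2 * 5) EX RL ⟨3 :: [2, 3, 4, 3, 2, 1, 3, 4, 1, 2, 4, 2, 3, 4, 3, 2, 3, 4, 3, 2, 4, 2, 3, 1], [0], 17, true⟩) (lall (memL L) [2, 3, 4, 3, 2, 1, 3, 4, 1, 2, 4, 2, 3, 4, 3, 2, 3, 4, 3, 2, 4, 2, 3, 1]) = true := by decide +kernel

theorem rot3_32 : T.rot 3 [4, 3, 2, 1, 3, 4, 1, 2, 4, 2, 3, 4, 3, 2, 3, 4, 3, 2, 4, 2, 3, 1, 3, 2] (sel (ones 128) ip3 32) = true := by decide +kernel

theorem rot3_32r : band (Rule.ok (2 * 5) EX RL ⟨3 :: [4, 3, 2, 1, 3, 4, 1, 2, 4, 2, 3, 4, 3, 2, 3, 4, 3, 2, 4, 2, 3, 1, 3, 2], [0, 4, 2], 17, true⟩) (lall (memL L) [4, 3, 2, 1, 3, 4, 1, 2, 4, 2, 3, 4, 3, 2, 3, 4, 3, 2, 4, 2, 3, 1, 3, 2]) = true := by decide +kernel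

theorem rot3_33 : T.rot 3 [2, 3, 4, 3, 2, 4, 2, 1, 4, 3, 1, 2, 3, 4, 3, 2, 3, 1, 3, 2, 4, 2, 3, 4] (sel (ones 128) ip3 33) = true := by decide +kernel

theorem rot3_33r : band (Rule.ok (2 * 5) EX RL ⟨3 :: [2, 3, 4, 3, 2, 4, 2, 1, 4, 3, 1, 2, 3, 4, 3, 2, 3, 1, 3, 2, 4, 2, 3, 4], [4, 2, 6, 2, 4, 6], 17, false⟩) (lall (memL L) [2, 3, 4, 3, 2, 4, 2, 1, 4, 3, 1, 2, 3, 4, 3, 2, 3, 1, 3, 2, 4, 2, 3, 4]) = true := by decide +kernel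

theorem rot3_34 : T.rot 3 [2, 3, 1, 3, 2, 4, 2, 3, 4, 3, 2, 3, 4, 3, 2, 4, 2, 1, 4, 3, 1, 2, 3, 4] (sel (ones 128) ip3 34) = true := by decide +kernel

theorem rot3_34r : band (Rule.ok (2 * 5) EX RL ⟨3 :: [2, 3, 1, 3, 2, 4, 2, 3, 4, 3, 2, 3, 4, 3, 2, 4, 2, 1, 4, 3, 1, 2, 3, 4], [0, 4, 2, 4], 17, false⟩) (lall (memL L) [2, 3, 1, 3, 2, 4, 2, 3, 4, 3, 2, 3, 4, 3, 2, 4, 2, 1, 4, 3, 1, 2, 3, 4]) = true := by decide +kernel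

theorem rot3_35 : T.rot 3 [2, 3, 4, 2, 4, 1, 3, 4, 1, 4, 2, 4, 3, 2, 3, 4, 3, 2, 4, 3, 4, 3, 2, 3, 4, 1] (sel (ones 128) ip3 35) = true := by decide +kernel

theorem rot3_35r : band (Rule.ok (2 * 5) EX RL ⟨3 :: [2, 3, 4, 2, 4, 1, 3, 4, 1, 4, 2, 4, 3, 2, 3, 4, 3, 2, 4, 3, 4, 3, 2, 3, 4, 1], [0], 16, true⟩) (lall (memL L) [2, 3, 4, 2, 4, 1, 3, 4, 1, 4, 2, 4, 3, 2, 3, 4, 3, 2, 4, 3, 4, 3, 2, 3, 4, 1]) = true := by decide +kernel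

theorem rot3_36 : T.rot 3 [1, 4, 3, 2, 3, 4, 3, 4, 2, 3, 4, 3, 2, 3, 4, 2, 4, 1, 4, 3, 1, 4, 2, 4, 3, 2] (sel (ones 128) ip3 36) = true := by decide +kernel

theorem rot3_36r : band (Rule.ok (2 * 5) EX RL ⟨3 :: [1, 4, 3, 2, 3, 4, 3, 4, 2, 3, 4, 3, 2, 3, 4, 2, 4, 1, 4, 3, 1, 4, 2, 4, 3, 2], [0, 4], 16, false⟩) (lall (memL L) [1, 4, 3, 2, 3, 4, 3, 4, 2, 3, 4, 3, 2, 3, 4, 2, 4, 1, 4, 3, 1, 4, 2, 4, 3, 2]) = true := by decide +kernel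

theorem cov3 : T.cover 3 [(sel (ones 128) ip3 1), (sel (ones 128) ip3 2), (sel (ones 128) ip3 3), (sel (ones 128) ip3 4), (sel (ones 128) ip3 5), (sel (ones 128) ip3 6), (sel (ones 128) ip3 7), (sel (ones 128) ip3 8), (sel (ones 128) ip3 9), (sel (ones 128) ip3 10), (sel (ones 128) ip3 11), (sel (ones 128) ip3 12), (sel (ones 128) ip3 13), (sel (ones 128) ip3 14), (sel (ones 128) ip3 15), (sel (ones 128) ip3 16), (sel (ones 128) ip3 17), (sel (ones 128) ip3 18), (sel (ones 128) ip3 19), (sel (ones 128) ip3 20), (sel (ones 128) ip3 21), (sel (ones 128) ip3 22), (sel (ones 128) ip3 23), (sel (ones 128) ip3 24), (sel (ones 128) ip3 25), (sel (ones 128) ip3 26), (sel (ones 128) ip3 27), (sel (ones 128) ip3 28), (sel (ones 128) ip3 29), (sel (ones 128) ip3 30), (sel (ones 128) ip3 31), (sel (ones 128) ip3 32), (sel (ones 128)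 ip3 33), (sel (ones 128) ip3 34), (sel (ones 128) ip3 35), (sel (ones 128) ip3 36), 1] = true := by decide +kernel

theorem tl3 : T.treeLt 7 3 = true := by decide +kernel

theorem rot4_1 : T.rot 4 [4] (sel (ones 128) ip4 1) = true := by decide +kernel

theorem rot4_1r : band (Rule.ok (2 * 5) EX RL ⟨4 :: [4], [], 23, false⟩) (lall (memL L) [4]) = true := by decide +kernel

theorem rot4_2 : T.rot 4 [1, 7, 1] (sel (ones 128) ip4 2) = true := by decide +kernel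

theorem rot4_2r : band (Rule.ok (2 * 5) EX RL ⟨4 :: [1, 7, 1], [], 23, false⟩) (lall (memL L) [1, 7, 1]) = true := by decide +kernel

theorem rot4_3 : T.rot 4 [5, 9, 2, 4, 1] (sel (ones 128) ip4 3) = true := by decide +kernel

theorem rot4_3r : band (Rule.ok (2 * 5) EX RL ⟨4 :: [5, 9, 2, 4, 1], [], 23, false⟩) (lall (memL L) [5, 9, 2, 4, 1]) = true := by decide +kernel

theorem rot4_4 : T.rot 4 [1, 4, 2, 8, 5] (sel (ones 128) ip4 4) = true := by decide +kernel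

theorem rot4_4r : band (Rule.ok (2 * 5) EX RL ⟨4 :: [1, 4, 2, 8, 5], [], 23, false⟩) (lall (memL L) [1, 4, 2, 8, 5]) = true := by decide +kernel

theorem rot4_5 : T.rot 4 [3, 4, 3, 4, 3, 4, 3] (sel (ones 128) ip4 5) = true := by decide +kernel

theorem rot4_5r : band (Rule.ok (2 * 5) EX RL ⟨4 :: [3, 4, 3, 4, 3, 4, 3], [], 2, true⟩) (lall (memL L) [3, 4, 3, 4, 3, 4, 3]) = true := by decide +kernel

theorem rot4_6 : T.rot 4 [2, 4, 2, 3, 5, 3, 2] (sel (ones 128) ip4 6) = true := by decide +kernel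

theorem rot4_6r : band (Rule.ok (2 * 5) EX RL ⟨4 :: [2, 4, 2, 3, 5, 3, 2], [4, 2], 11, true⟩) (lall (memL L) [2, 4, 2, 3, 5, 3, 2]) = true := by decide +kernel

theorem rot4_7 : T.rot 4 [2, 3, 5, 3, 2, 4, 2] (sel (ones 128) ip4 7) = true := by decide +kernel

theorem rot4_7r : band (Rule.ok (2 * 5) EX RL ⟨4 :: [2, 3, 5, 3, 2, 4, 2], [4, 2, 6], 11, false⟩) (lall (memL L) [2, 3, 5, 3, 2, 4, 2]) = true := by decide +kernel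

theorem rot4_8 : T.rot 4 [5, 1, 4, 9, 1, 2, 5, 1] (sel (ones 128) ip4 8) = true := by decide +kernel

theorem rot4_8r : band (Rule.ok (2 * 5) EX RL ⟨4 :: [5, 1, 4, 9, 1, 2, 5, 1], [0, 2, 8, 0], 21, true⟩) (lall (memL L) [5, 1, 4, 9, 1, 2, 5, 1]) = true := by decide +kernel

theorem rot4_9 : T.rot 4 [1, 5, 2, 1, 8, 4, 1, 5] (sel (ones 128) ip4 9) = true := by decide +kernel

theorem rot4_9r : band (Rule.ok (2 * 5) EX RL ⟨4 :: [1, 5, 2, 1, 8, 4, 1, 5], [0, 2, 8, 0, 6], 21, false⟩) (lall (memL L) [1, 5, 2, 1, 8, 4, 1, 5]) = true := by decide +kernel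

theorem rot4_10 : T.rot 4 [2, 4, 1, 4, 2, 4, 2, 5, 1, 2] (sel (ones 128) ip4 10) = true := by decide +kernel

theorem rot4_10r : band (Rule.ok (2 * 5) EX RL ⟨4 :: [2, 4, 1, 4, 2, 4, 2, 5, 1, 2], [0, 2], 12, true⟩) (lall (memL L) [2, 4, 1, 4, 2, 4, 2, 5, 1, 2]) = true := by decide +kernel

theorem rot4_11 : T.rot 4 [1, 4, 2, 4, 2, 5, 1, 2, 4, 2] (sel (ones 128) ip4 11) = true := by decide +kernel

theorem rot4_11r : band (Rule.ok (2 * 5) EX RL ⟨4 :: [1, 4, 2, 4, 2, 5, 1, 2, 4, 2], [0, 2, 6, 2], 12, true⟩) (lall (memL L) [1, 4, 2, 4, 2, 5, 1, 2, 4, 2]) = true := by decide +kernel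

theorem rot4_12 : T.rot 4 [2, 4, 2, 5, 1, 2, 4, 2, 4, 1] (sel (ones 128) ip4 12) = true := by decide +kernel

theorem rot4_12r : band (Rule.ok (2 * 5) EX RL ⟨4 :: [2, 4, 2, 5, 1, 2, 4, 2, 4, 1], [8, 2, 6, 2, 6], 12, true⟩) (lall (memL L) [2, 4, 2, 5, 1, 2, 4, 2, 4, 1]) = true := by decide +kernel

theorem rot4_13 : T.rot 4 [2, 1, 5, 2, 4, 2, 4, 1, 4, 2] (sel (ones 128) ip4 13) = true := by decide +kernel

theorem rot4_13r : band (Rule.ok (2 * 5) EX RL ⟨4 :: [2, 1, 5, 2, 4, 2, 4, 1, 4, 2], [0, 2, 6], 12, false⟩) (lall (memL L) [2, 1, 5, 2, 4, 2, 4, 1, 4, 2]) = true := by decide +kernel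

theorem rot4_14 : T.rot 4 [2, 4, 2, 4, 2, 4, 2, 4, 2, 4, 2] (sel (ones 128) ip4 14) = true := by decide +kernel

theorem rot4_14r : band (Rule.ok (2 * 5) EX RL ⟨4 :: [2, 4, 2, 4, 2, 4, 2, 4, 2, 4, 2], [], 1, true⟩) (lall (memL L) [2, 4, 2, 4, 2, 4, 2, 4, 2, 4, 2]) = true := by decide +kernel

theorem rot4_15 : T.rot 4 [1, 4, 1, 4, 1, 4, 1, 4, 1, 4, 1] (sel (ones 128) ip4 15) = true := by decide +kernel

theorem rot4_15r : band (Rule.ok (2 * 5) EX RL ⟨4 :: [1, 4, 1, 4, 1, 4, 1, 4, 1, 4, 1], [], 7, true⟩) (lall (memL L) [1, 4, 1, 4, 1, 4, 1, 4, 1, 4, 1]) = true := by decide +kernel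

theorem rot4_16 : T.rot 4 [3, 5, 2, 3, 8, 7, 4, 3, 2, 3, 2] (sel (ones 128) ip4 16) = true := by decide +kernel

theorem rot4_16r : band (Rule.ok (2 * 5) EX RL ⟨4 :: [3, 5, 2, 3, 8, 7, 4, 3, 2, 3, 2], [2, 4, 2], 22, true⟩) (lall (memL L) [3, 5, 2, 3, 8, 7, 4, 3, 2, 3, 2]) = true := by decide +kernel

theorem rot4_17 : T.rot 4 [2, 3, 2, 3, 4, 6, 9, 3, 2, 5, 3] (sel (ones 128) ip4 17) = true := by decide +kernel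

theorem rot4_17r : band (Rule.ok (2 * 5) EX RL ⟨4 :: [2, 3, 2, 3, 4, 6, 9, 3, 2, 5, 3], [2, 4, 2, 6], 22, false⟩) (lall (memL L) [2, 3, 2, 3, 4, 6, 9, 3, 2, 5, 3]) = true := by decide +kernel

theorem rot4_18 : T.rot 4 [1, 4, 1, 2, 1, 2, 4, 1, 4, 2, 1, 2, 1] (sel (ones 128) ip4 18) = true := by decide +kernel

theorem rot4_18r : band (Rule.ok (2 * 5) EX RL ⟨4 :: [1, 4, 1, 2, 1, 2, 4, 1, 4, 2, 1, 2, 1], [], 8, false⟩) (lall (memL L) [1, 4, 1, 2, 1, 2, 4, 1, 4, 2, 1, 2, 1]) = true := by decide +kernel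

theorem rot4_19 : T.rot 4 [1, 2, 1, 2, 4, 1, 4, 2, 1, 2, 1, 4, 1] (sel (ones 128) ip4 19) = true := by decide +kernel

theorem rot4_19r : band (Rule.ok (2 * 5) EX RL ⟨4 :: [1, 2, 1, 2, 4, 1, 4, 2, 1, 2, 1, 4, 1], [6], 8, true⟩) (lall (memL L) [1, 2, 1, 2, 4, 1, 4, 2, 1, 2, 1, 4, 1]) = true := by decide +kernel

theorem rot4_20 : T.rot 4 [2, 3, 2, 3, 4, 3, 2, 3, 2, 4, 2, 3, 2, 3] (sel (ones 128) ip4 20) = true := by decide +kernel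

theorem rot4_20r : band (Rule.ok (2 * 5) EX RL ⟨4 :: [2, 3, 2, 3, 4, 3, 2, 3, 2, 4, 2, 3, 2, 3], [2, 4, 2, 4], 3, true⟩) (lall (memL L) [2, 3, 2, 3, 4, 3, 2, 3, 2, 4, 2, 3, 2, 3]) = true := by decide +kernel

theorem rot4_21 : T.rot 4 [3, 2, 3, 2, 4, 2, 3, 2, 3, 4, 2, 3, 2, 3] (sel (ones 128) ip4 21) = true := by decide +kernel

theorem rot4_21r : band (Rule.ok (2 * 5) EX RL ⟨4 :: [3, 2, 3, 2, 4, 2, 3, 2, 3, 4, 2, 3, 2, 3], [6, 2, 4, 2, 4, 6], 3, true⟩) (lall (memL L) [3, 2, 3, 2, 4, 2, 3, 2, 3, 4, 2, 3, 2, 3]) = true := by decide +kernel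

theorem rot4_22 : T.rot 4 [2, 3, 2, 3, 4, 2, 3, 2, 3, 4, 3, 2, 3, 2] (sel (ones 128) ip4 22) = true := by decide +kernel

theorem rot4_22r : band (Rule.ok (2 * 5) EX RL ⟨4 :: [2, 3, 2, 3, 4, 2, 3, 2, 3, 4, 3, 2, 3, 2], [6], 3, true⟩) (lall (memL L) [2, 3, 2, 3, 4, 2, 3, 2, 3, 4, 3, 2, 3, 2]) = true := by decide +kernel

theorem rot4_23 : T.rot 4 [3, 2, 3, 2, 4, 2, 3, 2, 3, 4, 3, 2, 3, 2] (sel (ones 128) ip4 23) = true := by decide +kernel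

theorem rot4_23r : band (Rule.ok (2 * 5) EX RL ⟨4 :: [3, 2, 3, 2, 4, 2, 3, 2, 3, 4, 3, 2, 3, 2], [2, 4, 2, 4, 6], 3, false⟩) (lall (memL L) [3, 2, 3, 2, 4, 2, 3, 2, 3, 4, 3, 2, 3, 2]) = true := by decide +kernel

theorem rot4_24 : T.rot 4 [2, 3, 1, 3, 2, 4, 2, 4, 2, 3, 1, 3, 2, 4, 2] (sel (ones 128) ip4 24) = true := by decide +kernel

theorem rot4_24r : band (Rule.ok (2 * 5) EX RL ⟨4 :: [2, 3, 1, 3, 2, 4, 2, 4, 2, 3, 1, 3, 2, 4, 2], [4, 2, 6], 18, true⟩) (lall (memL L) [2, 3, 1, 3, 2, 4, 2, 4, 2, 3, 1, 3, 2, 4, 2]) = true := by decide +kernel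

theorem rot4_25 : T.rot 4 [3, 2, 3, 1, 3, 1, 3, 1, 2, 4, 3, 4, 3, 2, 4, 3] (sel (ones 128) ip4 25) = true := by decide +kernel

theorem rot4_25r : band (Rule.ok (2 * 5) EX RL ⟨4 :: [3, 2, 3, 1, 3, 1, 3, 1, 2, 4, 3, 4, 3, 2, 4, 3], [2, 6, 4, 6, 4, 2, 6, 4], 13, true⟩) (lall (memL L) [3, 2, 3, 1, 3, 1, 3, 1, 2, 4, 3, 4, 3, 2, 4, 3]) = true := by decide +kernel

theorem rot4_26 : T.rot 4 [3, 4, 2, 3, 4, 3, 4, 2, 1, 3, 1, 3, 1, 3, 2, 3] (sel (ones 128) ip4 26) = true := by decide +kernel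

theorem rot4_26r : band (Rule.ok (2 * 5) EX RL ⟨4 :: [3, 4, 2, 3, 4, 3, 4, 2, 1, 3, 1, 3, 1, 3, 2, 3], [0, 4, 0, 4, 0, 4, 2, 4], 13, false⟩) (lall (memL L) [3, 4, 2, 3, 4, 3, 4, 2, 1, 3, 1, 3, 1, 3, 2, 3]) = true := by decide +kernel

theorem rot4_27 : T.rot 4 [1, 2, 4, 1, 2, 4, 1, 2, 4, 1, 2, 4, 1, 2, 4, 1, 2] (sel (ones 128) ip4 27) = true := by decide +kernel

theorem rot4_27r : band (Rule.ok (2 * 5) EX RL ⟨4 :: [1, 2, 4, 1, 2, 4, 1, 2, 4, 1, 2, 4, 1, 2, 4, 1, 2], [6], 10, true⟩) (lall (memL L) [1, 2, 4, 1, 2, 4, 1, 2, 4, 1, 2, 4, 1, 2, 4, 1, 2]) = true := by decide +kernel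

theorem rot4_28 : T.rot 4 [3, 1, 3, 4, 2, 3, 4, 2, 3, 2, 4, 3, 2, 4, 3, 1, 3] (sel (ones 128) ip4 28) = true := by decide +kernel

theorem rot4_28r : band (Rule.ok (2 * 5) EX RL ⟨4 :: [3, 1, 3, 4, 2, 3, 4, 2, 3, 2, 4, 3, 2, 4, 3, 1, 3], [0, 4], 15, true⟩) (lall (memL L) [3, 1, 3, 4, 2, 3, 4, 2, 3, 2, 4, 3, 2, 4, 3, 1, 3]) = true := by decide +kernel

theorem rot4_29 : T.rot 4 [2, 4, 2, 3, 4, 2, 3, 2, 4, 2, 1, 4, 2, 4, 1, 4, 2, 4, 3] (sel (ones 128) ip4 29) = true := by decide +kernel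

theorem rot4_29r : band (Rule.ok (2 * 5) EX RL ⟨4 :: [2, 4, 2, 3, 4, 2, 3, 2, 4, 2, 1, 4, 2, 4, 1, 4, 2, 4, 3], [0, 6, 2, 6, 0, 6, 2, 6, 4], 19, true⟩) (lall (memL L) [2, 4, 2, 3, 4, 2, 3, 2, 4, 2, 1, 4, 2, 4, 1, 4, 2, 4, 3]) = true := by decide +kernel

theorem rot4_30 : T.rot 4 [2, 4, 3, 4, 2, 4, 1, 4, 2, 4, 1, 2, 4, 2, 3, 2, 4, 3, 2] (sel (ones 128) ip4 30) = true := by decide +kernel

theorem rot4_30r : band (Rule.ok (2 * 5) EX RL ⟨4 :: [2, 4, 3, 4, 2, 4, 1, 4, 2, 4, 1, 2, 4, 2, 3, 2, 4, 3, 2], [2, 6, 2, 4, 2, 6, 4, 2], 19, false⟩) (lall (memL L) [2, 4, 3, 4, 2, 4, 1, 4, 2, 4, 1, 2, 4, 2, 3, 2, 4, 3, 2]) = true := by decide +kernel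

theorem rot4_31 : T.rot 4 [3, 4, 2, 4, 1, 4, 2, 4, 1, 2, 4, 2, 3, 2, 4, 3, 2, 4, 2] (sel (ones 128) ip4 31) = true := by decide +kernel

theorem rot4_31r : band (Rule.ok (2 * 5) EX RL ⟨4 :: [3, 4, 2, 4, 1, 4, 2, 4, 1, 2, 4, 2, 3, 2, 4, 3, 2, 4, 2], [0, 6, 2, 6, 0, 6, 2, 6, 4, 6], 19, false⟩) (lall (memL L) [3, 4, 2, 4, 1, 4, 2, 4, 1, 2, 4, 2, 3, 2, 4, 3, 2, 4, 2]) = true := by decide +kernel

theorem rot4_32 : T.rot 4 [1, 2, 4, 2, 1, 4, 2, 4, 1, 4, 2, 4, 1, 2, 4, 1, 4, 2, 4, 1, 2, 1] (sel (ones 128) ip4 32) = true := by decide +kernel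

theorem rot4_32r : band (Rule.ok (2 * 5) EX RL ⟨4 :: [1, 2, 4, 2, 1, 4, 2, 4, 1, 4, 2, 4, 1, 2, 4, 1, 4, 2, 4, 1, 2, 1], [0, 2, 0], 9, true⟩) (lall (memL L) [1, 2, 4, 2, 1, 4, 2, 4, 1, 4, 2, 4, 1, 2, 4, 1, 4, 2, 4, 1, 2, 1]) = true := by decide +kernel

theorem rot4_33 : T.rot 4 [1, 2, 1, 4, 2, 4, 1, 4, 2, 1, 4, 2, 4, 1, 4, 2, 4, 1, 2, 4, 2, 1] (sel (ones 128) ip4 33) = true := by decide +kernel

theorem rot4_33r : band (Rule.ok (2 * 5) EX RL ⟨4 :: [1, 2, 1, 4, 2, 4, 1, 4, 2, 1, 4, 2, 4, 1, 4, 2, 4, 1, 2, 4, 2, 1], [0, 2, 0, 6], 9, false⟩) (lall (memL L) [1, 2, 1, 4, 2, 4, 1, 4, 2, 1, 4, 2, 4, 1, 4, 2, 4, 1, 2, 4, 2, 1]) = true := by decide +kernel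

theorem rot4_34 : T.rot 4 [2, 3, 4, 3, 2, 3, 4, 2, 3, 2, 4, 2, 4, 2, 3, 4, 2, 3, 4, 2, 3, 4, 2, 3] (sel (ones 128) ip4 34) = true := by decide +kernel

theorem rot4_34r : band (Rule.ok (2 * 5) EX RL ⟨4 :: [2, 3, 4, 3, 2, 3, 4, 2, 3, 2, 4, 2, 4, 2, 3, 4, 2, 3, 4, 2, 3, 4, 2, 3], [6, 4, 2, 4, 6, 4, 2, 6], 5, true⟩) (lall (memL L) [2, 3, 4, 3, 2, 3, 4, 2, 3, 2, 4, 2, 4, 2, 3, 4, 2, 3, 4, 2, 3, 4, 2, 3]) = true := by decide +kernel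

theorem rot4_35 : T.rot 4 [2, 3, 1, 3, 2, 3, 4, 3, 2, 1, 3, 4, 1, 2, 4, 2, 3, 4, 3, 2, 3, 4, 3, 2] (sel (ones 128) ip4 35) = true := by decide +kernel

theorem rot4_35r : band (Rule.ok (2 * 5) EX RL ⟨4 :: [2, 3, 1, 3, 2, 3, 4, 3, 2, 1, 3, 4, 1, 2, 4, 2, 3, 4, 3, 2, 3, 4, 3, 2], [4, 2, 6], 17, true⟩) (lall (memL L) [2, 3, 1, 3, 2, 3, 4, 3, 2, 1, 3, 4, 1, 2, 4, 2, 3, 4, 3, 2, 3, 4, 3, 2]) = true := by decide +kernel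

theorem rot4_36 : T.rot 4 [3, 1, 2, 3, 4, 3, 2, 3, 1, 3, 2, 4, 2, 3, 4, 3, 2, 3, 4, 3, 2, 4, 2, 1] (sel (ones 128) ip4 36) = true := by decide +kernel

theorem rot4_36r : band (Rule.ok (2 * 5) EX RL ⟨4 :: [3, 1, 2, 3, 4, 3, 2, 3, 1, 3, 2, 4, 2, 3, 4, 3, 2, 3, 4, 3, 2, 4, 2, 1], [0, 4, 2, 4, 6, 4, 2, 0, 4, 6], 17, false⟩) (lall (memL L) [3, 1, 2, 3, 4, 3, 2, 3, 1, 3, 2, 4, 2, 3, 4, 3, 2, 3, 4, 3, 2, 4, 2, 1]) = true := by decide +kernel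

theorem rot4_37 : T.rot 4 [2, 4, 3, 2, 3, 4, 3, 2, 4, 3, 4, 3, 2, 3, 4, 1, 3, 2, 3, 4, 2, 4, 1, 3, 4, 1] (sel (ones 128) ip4 37) = true := by decide +kernel

theorem rot4_37r : band (Rule.ok (2 * 5) EX RL ⟨4 :: [2, 4, 3, 2, 3, 4, 3, 2, 4, 3, 4, 3, 2, 3, 4, 1, 3, 2, 3, 4, 2, 4, 1, 3, 4, 1], [0, 4, 2, 4, 6, 2, 6, 0, 4, 6, 0], 16, true⟩) (lall (memL L) [2, 4, 3, 2, 3, 4, 3, 2, 4, 3, 4, 3, 2, 3, 4, 1, 3, 2, 3, 4, 2, 4, 1, 3, 4, 1]) = true := by decide +kernel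

theorem rot4_38 : T.rot 4 [1, 4, 3, 1, 4, 2, 4, 3, 2, 3, 1, 4, 3, 2, 3, 4, 3, 4, 2, 3, 4, 3, 2, 3, 4, 2] (sel (ones 128) ip4 38) = true := by decide +kernel

theorem rot4_38r : band (Rule.ok (2 * 5) EX RL ⟨4 :: [1, 4, 3, 1, 4, 2, 4, 3, 2, 3, 1, 4, 3, 2, 3, 4, 3, 4, 2, 3, 4, 3, 2, 3, 4, 2], [0, 4, 2, 4, 6, 2, 6, 0, 4, 6, 0, 6], 16, false⟩) (lall (memL L) [1, 4, 3, 1, 4, 2, 4, 3, 2, 3, 1, 4, 3, 2, 3, 4, 3, 4, 2, 3, 4, 3, 2, 3, 4, 2]) = true := by decide +kernel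

theorem cov4 : T.cover 4 [(sel (ones 128) ip4 1), (sel (ones 128) ip4 2), (sel (ones 128) ip4 3), (sel (ones 128) ip4 4), (sel (ones 128) ip4 5), (sel (ones 128) ip4 6), (sel (ones 128) ip4 7), (sel (ones 128) ip4 8), (sel (ones 128) ip4 9), (sel (ones 128) ip4 10), (sel (ones 128) ip4 11), (sel (ones 128) ip4 12), (sel (ones 128) ip4 13), (sel (ones 128) ip4 14), (sel (ones 128) ip4 15), (sel (ones 128) ip4 16), (sel (ones 128) ip4 17), (sel (ones 128) ip4 18), (sel (ones 128) ip4 19), (sel (ones 128) ip4 20), (sel (ones 128) ip4 21), (sel (ones 128) ip4 22), (sel (ones 128) ip4 23), (sel (ones 128) ip4 24), (sel (ones 128) ip4 25), (sel (ones 128) ip4 26), (sel (ones 128) ip4 27), (sel (ones 128) ip4 28), (sel (ones 128) ip4 29), (sel (ones 128) ip4 30), (sel (ones 128) ip4 31), (sel (ones 128) ip4 32), (sel (ones 128)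 ip4 33), (sel (ones 128) ip4 34), (sel (ones 128) ip4 35), (sel (ones 128) ip4 36), (sel (ones 128) ip4 37), (sel (ones 128) ip4 38), 1] = true := by decide +kernel

theorem tl4 : T.treeLt 7 4 = true := by decide +kernel

theorem rot5_1 : T.rot 5 [5] (sel (ones 128) ip5 1) = true := by decide +kernel

theorem rot5_1r : band (Rule.ok (2 * 5) EX RL ⟨5 :: [5], [], 23, false⟩) (lall (memL L) [5]) = true := by decide +kernel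

theorem rot5_2 : T.rot 5 [1, 5, 1] (sel (ones 128) ip5 2) = true := by decide +kernel

theorem rot5_2r : band (Rule.ok (2 * 5) EX RL ⟨5 :: [1, 5, 1], [], 20, false⟩) (lall (memL L) [1, 5, 1]) = true := by decide +kernel

theorem rot5_3 : T.rot 5 [9, 2, 4, 1, 4] (sel (ones 128) ip5 3) = true := by decide +kernel

theorem rot5_3r : band (Rule.ok (2 * 5) EX RL ⟨5 :: [9, 2, 4, 1, 4], [], 23, false⟩) (lall (memL L) [9, 2, 4, 1, 4]) = true := by decide +kernel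

theorem rot5_4 : T.rot 5 [4, 1, 4, 2, 8] (sel (ones 128) ip5 4) = true := by decide +kernel

theorem rot5_4r : band (Rule.ok (2 * 5) EX RL ⟨5 :: [4, 1, 4, 2, 8], [], 23, false⟩) (lall (memL L) [4, 1, 4, 2, 8]) = true := by decide +kernel

theorem rot5_5 : T.rot 5 [3, 2, 4, 2, 4, 2, 3] (sel (ones 128) ip5 5) = true := by decide +kernel

theorem rot5_5r : band (Rule.ok (2 * 5) EX RL ⟨5 :: [3, 2, 4, 2, 4, 2, 3], [], 11, false⟩) (lall (memL L) [3, 2, 4, 2, 4, 2, 3]) = true := by decide +kernel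

theorem rot5_6 : T.rot 5 [1, 4, 5, 1, 4, 9, 1, 2] (sel (ones 128) ip5 6) = true := by decide +kernel

theorem rot5_6r : band (Rule.ok (2 * 5) EX RL ⟨5 :: [1, 4, 5, 1, 4, 9, 1, 2], [0, 2], 21, true⟩) (lall (memL L) [1, 4, 5, 1, 4, 9, 1, 2]) = true := by decide +kernel

theorem rot5_7 : T.rot 5 [4, 1, 5, 2, 1, 8, 4, 1] (sel (ones 128) ip5 7) = true := by decide +kernel

theorem rot5_7r : band (Rule.ok (2 * 5) EX RL ⟨5 :: [4, 1, 5, 2, 1, 8, 4, 1], [0, 2, 8, 0, 6, 8], 21, false⟩) (lall (memL L) [4, 1, 5, 2, 1, 8, 4, 1]) = true := by decide +kernel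

theorem rot5_8 : T.rot 5 [2, 1, 8, 4, 1, 5, 4, 1] (sel (ones 128) ip5 8) = true := by decide +kernel

theorem rot5_8r : band (Rule.ok (2 * 5) EX RL ⟨5 :: [2, 1, 8, 4, 1, 5, 4, 1], [0, 2, 8], 21, false⟩) (lall (memL L) [2, 1, 8, 4, 1, 5, 4, 1]) = true := by decide +kernel

theorem rot5_9 : T.rot 5 [1, 2, 4, 2, 4, 1, 4, 2, 4, 2] (sel (ones 128) ip5 9) = true := by decide +kernel

theorem rot5_9r : band (Rule.ok (2 * 5) EX RL ⟨5 :: [1, 2, 4, 2, 4, 1, 4, 2, 4, 2], [8], 12, true⟩) (lall (memL L) [1, 2, 4, 2, 4, 1, 4, 2, 4, 2]) = true := by decide +kernel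

theorem rot5_10 : T.rot 5 [2, 4, 2, 4, 1, 4, 2, 4, 2, 1] (sel (ones 128) ip5 10) = true := by decide +kernel

theorem rot5_10r : band (Rule.ok (2 * 5) EX RL ⟨5 :: [2, 4, 2, 4, 1, 4, 2, 4, 2, 1], [], 12, false⟩) (lall (memL L) [2, 4, 2, 4, 1, 4, 2, 4, 2, 1]) = true := by decide +kernel

theorem rot5_11 : T.rot 5 [2, 3, 8, 7, 4, 3, 2, 3, 2, 4, 3] (sel (ones 128) ip5 11) = true := by decide +kernel

theorem rot5_11r : band (Rule.ok (2 * 5) EX RL ⟨5 :: [2, 3, 8, 7, 4, 3, 2, 3, 2, 4, 3], [2, 4, 2, 6, 4], 22, true⟩) (lall (memL L) [2, 3, 8, 7, 4, 3, 2, 3, 2, 4, 3]) = true := by decide +kernel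

theorem rot5_12 : T.rot 5 [3, 4, 2, 3, 2, 3, 4, 6, 9, 3, 2] (sel (ones 128) ip5 12) = true := by decide +kernel

theorem rot5_12r : band (Rule.ok (2 * 5) EX RL ⟨5 :: [3, 4, 2, 3, 2, 3, 4, 6, 9, 3, 2], [2, 4, 2, 6, 4, 8], 22, false⟩) (lall (memL L) [3, 4, 2, 3, 2, 3, 4, 6, 9, 3, 2]) = true := by decide +kernel

theorem cov5 : T.cover 5 [(sel (ones 128) ip5 1), (sel (ones 128) ip5 2), (sel (ones 128) ip5 3), (sel (ones 128) ip5 4), (sel (ones 128) ip5 5), (sel (ones 128) ip5 6), (sel (ones 128) ip5 7), (sel (ones 128) ip5 8), (sel (ones 128) ip5 9), (sel (ones 128) ip5 10), (sel (ones 128) ip5 11), (sel (ones 128) ip5 12)] = true := by decide +kernel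

theorem tl5 : T.treeLt 7 5 = true := by decide +kernel

theorem rot6_1 : T.rot 6 [1, 4, 1] (sel (ones 128) ip6 1) = true := by decide +kernel

theorem rot6_1r : band (Rule.ok (2 * 5) EX RL ⟨6 :: [1, 4, 1], [], 23, false⟩) (lall (memL L) [1, 4, 1]) = true := by decide +kernel

theorem rot6_2 : T.rot 6 [9, 3, 2, 5, 3, 4, 2, 3, 2, 3, 4] (sel (ones 128) ip6 2) = true := by decide +kernel

theorem rot6_2r : band (Rule.ok (2 * 5) EX RL ⟨6 :: [9, 3, 2, 5, 3, 4, 2, 3, 2, 3, 4], [4, 6], 22, false⟩) (lall (memL L) [9, 3, 2, 5, 3, 4, 2, 3, 2, 3, 4]) = true := by decide +kernel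

theorem cov6 : T.cover 6 [(sel (ones 128) ip6 1), (sel (ones 128) ip6 2), 1] = true := by decide +kernel

theorem tl6 : Nat.beq (T.let 6).tt 0 = true := by decide +kernel

theorem rot7_1 : T.rot 7 [6] (sel (ones 128) ip7 1) = true := by decide +kernel

theorem rot7_1r : band (Rule.ok (2 * 5) EX RL ⟨7 :: [6], [], 23, false⟩) (lall (memL L) [6]) = true := by decide +kernel

theorem rot7_2 : T.rot 7 [1, 4, 1] (sel (ones 128) ip7 2) = true := by decide +kernel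

theorem rot7_2r : band (Rule.ok (2 * 5) EX RL ⟨7 :: [1, 4, 1], [], 23, false⟩) (lall (memL L) [1, 4, 1]) = true := by decide +kernel

theorem rot7_3 : T.rot 7 [4, 3, 2, 3, 2, 4, 3, 5, 2, 3, 8] (sel (ones 128) ip7 3) = true := by decide +kernel

theorem rot7_3r : band (Rule.ok (2 * 5) EX RL ⟨7 :: [4, 3, 2, 3, 2, 4, 3, 5, 2, 3, 8], [4, 6, 0, 6, 0], 22, true⟩) (lall (memL L) [4, 3, 2, 3, 2, 4, 3, 5, 2, 3, 8]) = true := by decide +kernel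

theorem cov7 : T.cover 7 [(sel (ones 128) ip7 1), (sel (ones 128) ip7 2), (sel (ones 128) ip7 3)] = true := by decide +kernel

theorem tl7 : Nat.beq (T.let 7).tt 0 = true := by decide +kernel

theorem rot8_1 : T.rot 8 [5, 4, 1, 4, 2] (sel (ones 128) ip8 1) = true := by decide +kernel

theorem rot8_1r : band (Rule.ok (2 * 5) EX RL ⟨8 :: [5, 4, 1, 4, 2], [], 23, false⟩) (lall (memL L) [5, 4, 1, 4, 2]) = true := by decide +kernel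

theorem rot8_2 : T.rot 8 [4, 1, 5, 4, 1, 5, 2, 1] (sel (ones 128) ip8 2) = true := by decide +kernel

theorem rot8_2r : band (Rule.ok (2 * 5) EX RL ⟨8 :: [4, 1, 5, 4, 1, 5, 2, 1], [], 21, false⟩) (lall (memL L) [4, 1, 5, 4, 1, 5, 2, 1]) = true := by decide +kernel

theorem rot8_3 : T.rot 8 [7, 4, 3, 2, 3, 2, 4, 3, 5, 2, 3] (sel (ones 128) ip8 3) = true := by decide +kernel

theorem rot8_3r : band (Rule.ok (2 * 5) EX RL ⟨8 :: [7, 4, 3, 2, 3, 2, 4, 3, 5, 2, 3], [2, 4, 2, 6, 4, 8, 2, 4], 22, true⟩) (lall (memL L) [7, 4, 3, 2, 3, 2, 4, 3, 5, 2, 3]) = true := by decide +kernel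

theorem cov8 : T.cover 8 [(sel (ones 128) ip8 1), (sel (ones 128) ip8 2), (sel (ones 128) ip8 3), 1] = true := by decide +kernel

theorem tl8 : Nat.beq (T.let 8).tt 0 = true := by decide +kernel

theorem rot9_1 : T.rot 9 [8] (sel (ones 128) ip9 1) = true := by decide +kernel

theorem rot9_1r : band (Rule.ok (2 * 5) EX RL ⟨9 :: [8], [], 23, false⟩) (lall (memL L) [8]) = true := by decide +kernel

theorem rot9_2 : T.rot 9 [2, 4, 1, 4, 5] (sel (ones 128) ip9 2) = true := by decide +kernel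

theorem rot9_2r : band (Rule.ok (2 * 5) EX RL ⟨9 :: [2, 4, 1, 4, 5], [], 23, false⟩) (lall (memL L) [2, 4, 1, 4, 5]) = true := by decide +kernel

theorem rot9_3 : T.rot 9 [1, 2, 5, 1, 4, 5, 1, 4] (sel (ones 128) ip9 3) = true := by decide +kernel

theorem rot9_3r : band (Rule.ok (2 * 5) EX RL ⟨9 :: [1, 2, 5, 1, 4, 5, 1, 4], [2, 6, 0, 6, 8], 21, true⟩) (lall (memL L) [1, 2, 5, 1, 4, 5, 1, 4]) = true := by decide +kernel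

theorem rot9_4 : T.rot 9 [3, 2, 5, 3, 4, 2, 3, 2, 3, 4, 6] (sel (ones 128) ip9 4) = true := by decide +kernel

theorem rot9_4r : band (Rule.ok (2 * 5) EX RL ⟨9 :: [3, 2, 5, 3, 4, 2, 3, 2, 3, 4, 6], [4, 6, 0, 6, 0], 22, false⟩) (lall (memL L) [3, 2, 5, 3, 4, 2, 3, 2, 3, 4, 6]) = true := by decide +kernel

theorem cov9 : T.cover 9 [(sel (ones 128) ip9 1), (sel (ones 128) ip9 2), (sel (ones 128) ip9 3), (sel (ones 128) ip9 4)] = true := by decide +kernel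

theorem tl9 : Nat.beq (T.let 9).tt 0 = true := by decide +kernel

end Cfsg.Agent.Spor.C3EM
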