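import Cfsg.Agent.Spor.Chk

set_option autoImplicit false
set_option maxRecDepth 100000000
set_option Elab.async false
noncomputable section

namespace Cfsg.Agent.Spor.C3EM

def m0_0 : Nat := nat_lit 0xd452aeb37a1aa844
def m0_1 : Nat := nat_lit 0x8c1a1aa10000000098216c02
def m0_2 : Nat := nat_lit 0x52400006b1100004c5500009dc3
def m0_3 : Nat := nat_lit 0x9900b0000c006000f2000b00420049
def m0_4 : Nat := nat_lit 0x40008000006040f0e0e0100010e060a
def m0_5 : Nat := nat_lit 0x12110312021200001201211221101020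
def m0_6 : Nat := nat_lit 0x45410501405115414050514555154541
def m0_7 : Nat := nat_lit 0x100001100020000000000000001011
def m0_8 : Nat := nat_lit 0x10a010c0e05060004010c0004000401
def m0_9 : Nat := nat_lit 0x6100d100b0000b0044006d00800058
def m0_10 : Nat := nat_lit 0x6853000016450000073000000b26
def m0_11 : Nat := nat_lit 0x989a0560000000054d80991
def m0_12 : Nat := nat_lit 0x93c310de45d89f88
def n0 : Net := Net.cons 64 m0_0 (Net.cons 32 m0_1 (Net.cons 16 m0_2 (Net.cons 8 m0_3 (Net.cons 4 m0_4 (Net.cons 2 m0_5 (Net.cons 1 m0_6 (Net.cons 2 m0_7 (Net.cons 4 m0_8 (Net.cons 8 m0_9 (Net.cons 16 m0_10 (Net.cons 32 m0_11 (Net.cons 64 m0_12 (Net.nil)))))))))))))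

def m1_0 : Nat := nat_lit 0x6f19119205d4d640
def m1_1 : Nat := nat_lit 0x1d97b09900000000c84aa419
def m1_2 : Nat := nat_lit 0x8cc90000c4d500003800000077e9
def m1_3 : Nat := nat_lit 0xae008400ab0011008100500080004b
def m1_4 : Nat := nat_lit 0x801050a0609080002010f0201060f02
def m1_5 : Nat := nat_lit 0x1121010332310233303023133132231
def m1_6 : Nat := nat_lit 0x51140405400144000540110005404100
def m1_7 : Nat := nat_lit 0x1100200000001000010210000001000
def m1_8 : Nat := nat_lit 0xc080502040105000102000202000002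
def m1_9 : Nat := nat_lit 0xa0008e0015001b0080004b00810050
def m1_10 : Nat := nat_lit 0x404300008494000037e900002800
def m1_11 : Nat := nat_lit 0x18978a930000000035b55b66
def m1_12 : Nat := nat_lit 0x6f19119205d4d640
def n1 : Net := Net.cons 64 m1_0 (Net.cons 32 m1_1 (Net.cons 16 m1_2 (Net.cons 8 m1_3 (Net.cons 4 m1_4 (Net.cons 2 m1_5 (Net.cons 1 m1_6 (Net.cons 2 m1_7 (Net.cons 4 m1_8 (Net.cons 8 m1_9 (Net.cons 16 m1_10 (Net.cons 32 m1_11 (Net.cons 64 m1_12 (Net.nil)))))))))))))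

def m2_0 : Nat := nat_lit 0xc00c9508d9d01848
def m2_1 : Nat := nat_lit 0x963483260000000060662e00
def m2_2 : Nat := nat_lit 0xf67000006094000061180000738c
def m2_3 : Nat := nat_lit 0x5c002c000300180086004c002e00ac
def m2_4 : Nat := nat_lit 0x60802010d02020106000003020f0106
def m2_5 : Nat := nat_lit 0x30230000023021032300010333011312
def m2_6 : Nat := nat_lit 0x15141445440404450551015550444040
def m2_7 : Nat := nat_lit 0x2000200001000000010000101010
def m2_8 : Nat := nat_lit 0x6030201020203000600000302000300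
def m2_9 : Nat := nat_lit 0x4a0000000300010082004c002e0086
def m2_10 : Nat := nat_lit 0x247000006094000061100000738c
def m2_11 : Nat := nat_lit 0x963483260000000060662e00
def m2_12 : Nat := nat_lit 0xc00c9508d9d01848
def n2 : Net := Net.cons 64 m2_0 (Net.cons 32 m2_1 (Net.cons 16 m2_2 (Net.cons 8 m2_3 (Net.cons 4 m2_4 (Net.cons 2 m2_5 (Net.cons 1 m2_6 (Net.cons 2 m2_7 (Net.cons 4 m2_8 (Net.cons 8 m2_9 (Net.cons 16 m2_10 (Net.cons 32 m2_11 (Net.cons 64 m2_12 (Net.nil)))))))))))))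

def m3_0 : Nat := nat_lit 0x1408858027c02048
def m3_1 : Nat := nat_lit 0x802688140000000053c0ea40
def m3_2 : Nat := nat_lit 0x599500004f200000c5090000419a
def m3_3 : Nat := nat_lit 0xf9001b0007004800c6004b000800cd
def m3_4 : Nat := nat_lit 0x3040201060107090e020e00030d0004
def m3_5 : Nat := nat_lit 0x2011200303013010013011210000000
def m3_6 : Nat := nat_lit 0x4051144015000100040101445000415
def m3_7 : Nat := nat_lit 0x1000000000000010001010000200
def m3_8 : Nat := nat_lit 0x6000000060102010006020003000400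
def m3_9 : Nat := nat_lit 0x4002a000700480082004b00080001
def m3_10 : Nat := nat_lit 0x28ae00000d200000c0480000419a
def m3_11 : Nat := nat_lit 0x802608140000000051c0c044
def m3_12 : Nat := nat_lit 0x1408858027c02048
def n3 : Net := Net.cons 64 m3_0 (Net.cons 32 m3_1 (Net.cons 16 m3_2 (Net.cons 8 m3_3 (Net.cons 4 m3_4 (Net.cons 2 m3_5 (Net.cons 1 m3_6 (Net.cons 2 m3_7 (Net.cons 4 m3_8 (Net.cons 8 m3_9 (Net.cons 16 m3_10 (Net.cons 32 m3_11 (Net.cons 64 m3_12 (Net.nil)))))))))))))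

def m4_0 : Nat := nat_lit 0x883c8cd148a0143a
def m4_1 : Nat := nat_lit 0x714db48d00000000804b36f4
def m4_2 : Nat := nat_lit 0xc15a00001a700000d04600000c72
def m4_3 : Nat := nat_lit 0xa3008c002500070041009c005600a1
def m4_4 : Nat := nat_lit 0x106010c0b0c080e0b05030a000c08
def m4_5 : Nat := nat_lit 0x10212130120012021100330010303310
def m4_6 : Nat := nat_lit 0x4541111040144454110101154501414
def m4_7 : Nat := nat_lit 0x2011102000110000110002201000002
def m4_8 : Nat := nat_lit 0xa02000a040106000001000005020404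
def m4_9 : Nat := nat_lit 0x8c005900240048000700090002001a
def m4_10 : Nat := nat_lit 0xc4d90000921000003d220000c780
def m4_11 : Nat := nat_lit 0x9e94920d000000001cf00e73
def m4_12 : Nat := nat_lit 0x52842806667ea965
def n4 : Net := Net.cons 64 m4_0 (Net.cons 32 m4_1 (Net.cons 16 m4_2 (Net.cons 8 m4_3 (Net.cons 4 m4_4 (Net.cons 2 m4_5 (Net.cons 1 m4_6 (Net.cons 2 m4_7 (Net.cons 4 m4_8 (Net.cons 8 m4_9 (Net.cons 16 m4_10 (Net.cons 32 m4_11 (Net.cons 64 m4_12 (Net.nil)))))))))))))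

def m5_0 : Nat := nat_lit 0x1c63115022505931
def m5_1 : Nat := nat_lit 0x88c0d100000000000a8ca001
def m5_2 : Nat := nat_lit 0x566a0000b6460000a04e00006919
def m5_3 : Nat := nat_lit 0x760063003400b1007a00240011003b
def m5_4 : Nat := nat_lit 0xf020807040801070005070008050106
def m5_5 : Nat := nat_lit 0x11313011013211330101000010131021
def m5_6 : Nat := nat_lit 0x11505411100014004444511541104041
def m5_7 : Nat := nat_lit 0x11000011000011000121000010101001
def m5_8 : Nat := nat_lit 0xa00040001000104040008050100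
def m5_9 : Nat := nat_lit 0x14000100b000310041002400310023
def m5_10 : Nat := nat_lit 0x3404000014cc0000a0ce0000089d
def m5_11 : Nat := nat_lit 0x88c0d100000000000a2c8085
def m5_12 : Nat := nat_lit 0x1c63115022505121
def n5 : Net := Net.cons 64 m5_0 (Net.cons 32 m5_1 (Net.cons 16 m5_2 (Net.cons 8 m5_3 (Net.cons 4 m5_4 (Net.cons 2 m5_5 (Net.cons 1 m5_6 (Net.cons 2 m5_7 (Net.cons 4 m5_8 (Net.cons 8 m5_9 (Net.cons 16 m5_10 (Net.cons 32 m5_11 (Net.cons 64 m5_12 (Net.nil)))))))))))))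

def m6_0 : Nat := nat_lit 0xfa606254c610231d
def m6_1 : Nat := nat_lit 0x74a70e5100000000cb224b78
def m6_2 : Nat := nat_lit 0xd1a20000200b0000d0a30000099b
def m6_3 : Nat := nat_lit 0x3c00a7007600a2008700c8007f0030
def m6_4 : Nat := nat_lit 0x509020c060d00060e0e02080d080305
def m6_5 : Nat := nat_lit 0x22000113012102001031030320001
def m6_6 : Nat := nat_lit 0x5145014411111110154104405151510
def m6_7 : Nat := nat_lit 0x110020010111000001000000002020
def m6_8 : Nat := nat_lit 0x505060506000a0201040500000c0606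
def m6_9 : Nat := nat_lit 0x220029002400430091006c00020045
def m6_10 : Nat := nat_lit 0x8150000060fe000034ba00001040
def m6_11 : Nat := nat_lit 0x61b0348f000000008a06634c
def m6_12 : Nat := nat_lit 0x3ac401c2ca4cd51b
def n6 : Net := Net.cons 64 m6_0 (Net.cons 32 m6_1 (Net.cons 16 m6_2 (Net.cons 8 m6_3 (Net.cons 4 m6_4 (Net.cons 2 m6_5 (Net.cons 1 m6_6 (Net.cons 2 m6_7 (Net.cons 4 m6_8 (Net.cons 8 m6_9 (Net.cons 16 m6_10 (Net.cons 32 m6_11 (Net.cons 64 m6_12 (Net.nil)))))))))))))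

def cl1 : Nat := nat_lit 0xffffffffffffffffffffffffffffffff
def tt1 : Nat := nat_lit 0x180340c2108c04089020088020044082
def tm1_0 : Nat := nat_lit 0xfe7fffda35bd0e89d426889a2884c082
def tm1_1 : Nat := nat_lit 0xa0a89435206322620c81a65b1ba2a648
def tm1_2 : Nat := nat_lit 0xc754bb18ef1111b7459a021000000000
def tm1_3 : Nat := nat_lit 0x204100000400005200008000
def tm1_4 : Nat := nat_lit 0xe77cbb1ccf3039b7419e020008800000
def ip1_0 : Nat := nat_lit 0x7b33d1caf1bd15a991320a9028046082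
def ip1_1 : Nat := nat_lit 0x81c49935667330d00c10a41b18a2a648
def ip1_2 : Nat := nat_lit 0x334b710e14102354400001009802200
def ip1_3 : Nat := nat_lit 0x25203810476108024017001003020000
def ip1_4 : Nat := nat_lit 0x474c3518e71003300512004008800000
def ip1_5 : Nat := nat_lit 0x80100200080000800088020000000000
def ip1 : List Nat := [ip1_0, ip1_1, ip1_2, ip1_3, ip1_4, ip1_5]
def l1 : Let := ⟨0, false, cl1, tt1, [tm1_0, tm1_1, tm1_2, tm1_3, tm1_4]⟩

def cl2 : Nat := nat_lit 0xffffffffffffffffffffffffffffffff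
def tt2 : Nat := nat_lit 0x4000104211008810209101242480814
def tm2_0 : Nat := nat_lit 0x2fc90bff6b994cf372cd727b526b0814
def tm2_1 : Nat := nat_lit 0xd03094315a0d140041404e2039202000
def tm2_2 : Nat := nat_lit 0xdbd7bebbcca5e57659f6640929022000
def tm2_3 : Nat := nat_lit 0x80000420880104004054006128210000
def tm2_4 : Nat := nat_lit 0x7bfffadb56eef17ebda26c0801022000
def ip2_0 : Nat := nat_lit 0x1cc31bb671bedce94fb91072736a2814
def ip2_1 : Nat := nat_lit 0xa9ba4db8aaa115aec16006001032000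
def ip2_2 : Nat := nat_lit 0xe2eeb403c047757050e4022908022000
def ip2_3 : Nat := nat_lit 0x5aa0d0a29e4d845481d00e4839230000
def ip2_4 : Nat := nat_lit 0x1a4008914c8044425040602000220000
def ip2_5 : Nat := nat_lit 0x18182080044101081a4280101000000
def ip2 : List Nat := [ip2_0, ip2_1, ip2_2, ip2_3, ip2_4, ip2_5]
def l2 : Let := ⟨1, false, cl2, tt2, [tm2_0, tm2_1, tm2_2, tm2_3, tm2_4]⟩

def cl3 : Nat := nat_lit 0xffffffffffffffffffffffffffffffff
def tt3 : Nat := nat_lit 0xa21002104400c01224c2412404809120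
def tm3_0 : Nat := nat_lit 0xeeb75b32f406f13eece6636424809120
def tm3_1 : Nat := nat_lit 0x4c4594823002064813250853c2200000
def tm3_2 : Nat := nat_lit 0x5eabd8cab9e1f6419101000a1000000
def tm3_3 : Nat := nat_lit 0x4000001a8121e0000102210a0200000
def tm3_4 : Nat := nat_lit 0x59effdef118d216cdb2d080003000000
def ip3_0 : Nat := nat_lit 0xf6fba7127490c17eb7ca537686809120
def ip3_1 : Nat := nat_lit 0x4083e18ea08c07605010004061000000
def ip3_2 : Nat := nat_lit 0x50e29491b16360c9b293a1383200000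
def ip3_3 : Nat := nat_lit 0x28b4a9a00012481000000001000000
def ip3_4 : Nat := nat_lit 0x192b802a8005100011040000a0000000
def ip3_5 : Nat := nat_lit 0x400000018008000010000000000000
def ip3 : List Nat := [ip3_0, ip3_1, ip3_2, ip3_3, ip3_4, ip3_5]
def l3 : Let := ⟨2, false, cl3, tt3, [tm3_0, tm3_1, tm3_2, tm3_3, tm3_4]⟩

def cl4 : Nat := nat_lit 0xffffffffffffffffffffffffffffffff
def tt4 : Nat := nat_lit 0x4168a408800113204114024089112200
def tm4_0 : Nat := nat_lit 0x4f6ca41d94d5b36a7956ae4589153200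
def tm4_1 : Nat := nat_lit 0x341018b56640c80a36229c3e40001002
def tm4_2 : Nat := nat_lit 0x88975bd7519660401820640900200000
def tm4_3 : Nat := nat_lit 0x4000000405040000000001010200000
def tm4_4 : Nat := nat_lit 0xba975bf73f8eacc83e42ac0500040000
def ip4_0 : Nat := nat_lit 0x6f7eeecace0bfb627f14ca6b99152200
def ip4_1 : Nat := nat_lit 0x8c1009b1091c84c01a40b01300241002
def ip4_2 : Nat := nat_lit 0xb2025a027bd84cc22e02d81700201000
def ip4_3 : Nat := nat_lit 0x34840160235820401220a41910001000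
def ip4_4 : Nat := nat_lit 0x18000005278424083a422c2440040000
def ip4_5 : Nat := nat_lit 0x80030090100200000000000000000000
def ip4 : List Nat := [ip4_0, ip4_1, ip4_2, ip4_3, ip4_4, ip4_5]
def l4 : Let := ⟨3, false, cl4, tt4, [tm4_0, tm4_1, tm4_2, tm4_3, tm4_4]⟩

def cl5 : Nat := nat_lit 0xffffffffffffffffffffffffffffffff
def tt5 : Nat := nat_lit 0x8418210a6220440800a40910220448
def tm5_0 : Nat := nat_lit 0x918c9a7deaebfe448851a62951234448
def tm5_1 : Nat := nat_lit 0xda6aa1d224089bb3c3c841604100c000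
def tm5_2 : Nat := nat_lit 0x6f63e39ad581cbb353b943004a890000
def tm5_3 : Nat := nat_lit 0x4040300002000040006040008000
def tm5_4 : Nat := nat_lit 0xff7ba79ec59dddb3d798530008880000
def ip5_0 : Nat := nat_lit 0x9fbcba398bf2f6640858e669582a8448
def ip5_1 : Nat := nat_lit 0x4d434580748c14935709500003814000
def ip5_2 : Nat := nat_lit 0xb230a29ca091ca0280c0016042008000
def ip5_3 : Nat := nat_lit 0x414b01464109052111b8430008880000
def ip5 : List Nat := [ip5_0, ip5_1, ip5_2, ip5_3]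
def l5 : Let := ⟨4, false, cl5, tt5, [tm5_0, tm5_1, tm5_2, tm5_3, tm5_4]⟩

def cl6 : Nat := nat_lit 0xc4020080400000208100014c419
def tm6_0 : Nat := nat_lit 0x200004000000000000000408
def tm6_1 : Nat := nat_lit 0x800200804000000000000044018
def tm6_2 : Nat := nat_lit 0xc40000000000002080000108000
def tm6_3 : Nat := nat_lit 0x40000000000000000000008400
def tm6_4 : Nat := nat_lit 0x800200004000002001000100010
def ip6_0 : Nat := nat_lit 0xc4020080000000008100014c418
def ip6_1 : Nat := nat_lit 0x4000002000000000000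
def ip6 : List Nat := [ip6_0, ip6_1]
def l6 : Let := ⟨5, false, cl6, 0x0, [tm6_0, tm6_1, tm6_2, tm6_3, tm6_4]⟩

def cl7 : Nat := nat_lit 0xa00804800d080020028501
def tm7_0 : Nat := nat_lit 0x4000c000000020401
def tm7_1 : Nat := nat_lit 0x8048004000020020000
def tm7_2 : Nat := nat_lit 0xa000000009080000008000
def tm7_4 : Nat := nat_lit 0xa00804000c000000000100
def ip7_0 : Nat := nat_lit 0x40000000000000001
def ip7_1 : Nat := nat_lit 0xa00804800d080020028500
def ip7 : List Nat := [ip7_0, ip7_1]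
def l7 : Let := ⟨5, true, cl7, 0x0, [tm7_0, tm7_1, tm7_2, 0x8400, tm7_4]⟩

def cl8 : Nat := nat_lit 0x24000020000c04006040021104131a1f
def tm8_0 : Nat := nat_lit 0x4000000000800002000021000000a1e
def tm8_1 : Nat := nat_lit 0x2000000000040400004002110003181e
def tm8_2 : Nat := nat_lit 0xc00004000000104121202
def tm8_3 : Nat := nat_lit 0x20100010000
def tm8_4 : Nat := nat_lit 0x24000020000c04006040001004121208
def ip8_0 : Nat := nat_lit 0x24000020000c04006040020104131a1e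
def ip8_1 : Nat := nat_lit 0x400006040001000000008
def ip8 : List Nat := [ip8_0, ip8_1]
def l8 : Let := ⟨6, false, cl8, 0x0, [tm8_0, tm8_1, tm8_2, tm8_3, tm8_4]⟩

def cl9 : Nat := nat_lit 0x600000400024080c902508002022a5c9
def tm9_0 : Nat := nat_lit 0x6000000000040808102000002000a549
def tm9_1 : Nat := nat_lit 0x2000000000000804800100000022a4c8
def tm9_2 : Nat := nat_lit 0x40000040000000081025080020020000
def tm9_3 : Nat := nat_lit 0x1000000008080
def tm9_4 : Nat := nat_lit 0x600000400024080c9004080020220100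
def ip9_0 : Nat := nat_lit 0x60000000000000000000000000002001
def ip9_1 : Nat := nat_lit 0x600000400024000c102108002022a4c8
def ip9_2 : Nat := nat_lit 0x8008004000000000100
def ip9 : List Nat := [ip9_0, ip9_1, ip9_2]
def l9 : Let := ⟨6, true, cl9, 0x0, [tm9_0, tm9_1, tm9_2, tm9_3, tm9_4]⟩

def NT : List Net := [n0, n1, n2, n3, n4, n5, n6]
def LT : List Let := [⟨0, false, 0, 0, []⟩, l1, l2, l3, l4, l5, l6, l7, l8, l9]
def T : Tab := ⟨NT, LT⟩
def EX : List (List Nat) := [[], [0], [2], [4], [6], [8], [0, 6, 0], [0, 6, 0], [8, 6, 0, 6, 2], [2, 6, 0, 6, 8]]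
def RL : List (List Nat) := [[2, 4, 2, 4, 2, 4, 2, 4], [2, 6, 2, 6, 2, 6, 2, 6, 2, 6, 2, 6], [4, 6, 4, 6, 4, 6, 4, 6], [6, 2, 4, 2, 4, 6, 4, 2, 4, 2, 6, 4, 2, 4, 2], [6, 4, 6, 2, 4, 6, 2, 6, 4, 6, 4, 2, 6, 2, 6, 4, 6, 4, 2, 6, 4, 2], [6, 4, 2, 4, 6, 4, 2, 6, 4, 2, 6, 4, 2, 6, 4, 2, 6, 4, 2, 6, 2, 6, 2, 4, 2], [0, 2, 0, 2, 0, 2, 0, 2], [0, 6, 0, 6, 0, 6, 0, 6, 0, 6, 0, 6], [6, 0, 6, 0, 2, 0, 2, 6, 0, 6, 2, 0, 2, 0], [6, 2, 6, 0, 6, 2, 0, 6, 2, 6, 0, 6, 2, 6, 0, 2, 6, 2, 0, 6, 0, 2, 0], [6, 2, 0, 6, 2, 0, 6, 2, 0, 6, 2, 0, 6, 2, 0, 6, 2, 0], [8, 4, 2, 6, 2, 6, 2, 4], [8, 2, 6, 2, 6, 0, 6, 2, 6, 2, 0], [0, 4, 0, 4, 0, 4, 2, 4, 6, 4, 6, 2, 4, 6, 4, 6, 2], [0, 4, 0, 4, 0, 4, 0, 4, 0, 4, 0, 4], [4, 6, 2, 4, 6, 2, 4, 2, 6, 4, 2, 6, 4, 0, 4, 6, 4, 0], [6, 4, 2, 4, 6, 4, 6, 2, 4, 6, 4, 2, 4, 6, 2, 6, 0, 6, 4, 0, 6, 2, 6, 4, 2, 4, 0], [4, 2, 6, 2, 4, 6, 4, 2, 4, 6, 4, 2, 6, 2, 0, 6, 4, 0, 2, 4, 6, 4, 2, 4, 0], [4, 2, 6, 2, 6, 2, 4, 0, 4,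 2, 6, 2, 6, 2, 4, 0], [2, 6, 2, 4, 2, 6, 4, 2, 6, 2, 6, 4, 6, 2, 6, 0, 6, 2, 6, 0], [8, 0, 8, 0], [2, 6, 0, 6, 8, 6, 0, 8, 6, 0, 8, 2, 0], [4, 6, 0, 6, 0, 8, 6, 0, 6, 2, 4, 2, 8, 4, 6, 2, 4, 2]]
def XL : List (List Nat) := []
def BW : List (List Nat) := [[4], [6], [0, 6, 0], [8, 6, 0, 6, 2]]
def IV : Nat := 0x8090607050403020100
def L : List Nat := [1, 2, 3, 4, 5, 6, 7, 8, 9]
def gs : List Nat := [1, 2, 3, 4, 5]
def base : List Nat := [3, 4, 6, 8]

end Cfsg.Agent.Spor.C3EM
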